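import Mathlib
import Cfsg.Agent.Lib.Forms.DicksonUni
import Cfsg.Agent.Lib.Forms.DicksonCor

/-!
# Opposite transvections whose ratios and product generate the field
-/

set_option autoImplicit false
set_option linter.unusedSectionVars false

namespace Cfsg.Agent.Forms.Max.SU3.Subfield

open Matrix MulAction OnePoint
open scoped MatrixGroups

variable {F : Type*} [Field F] [Fintype F]

namespace Dickson

/-- a single upper transvection suffices in odd characteristic, unless a group of degree five fits -/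
theorem transitive_one (p : ℕ) [CharP F p] [Fact p.Prime] (hp2 : p ≠ 2) (G : Subgroup SL(2, F))
    (h5 : p = 3 → ¬ 5 ∣ Fintype.card F * ((Fintype.card F - 1) * (Fintype.card F + 1)))
    {a₁ b : F} (hup : Classical.GL2.uniSL a₁ ∈ G) (ha₁ : a₁ ≠ 0) (hb : b ≠ 0)
    (hlow : Classical.GL2.lowSL b ∈ G) :
    ∃ x, DicksonModular.Transitive' ((DicksonAction.twoPt (F := F) p).subgroup (G.map (KleinPSL.pi F))) x := by
  classical
  set H := G.map (KleinPSL.pi F) with hH
  have hT := DicksonAction.twoPt (F := F) p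
  have hTH := hT.subgroup H
  have hpi1 : ∀ a : F, KleinPSL.pi F (Classical.GL2.uniSL a) = 1 → a = 0 := fun a h => by
    rcases KleinPSL.pi_eq_one.1 h with h | h
    · simpa [Classical.GL2.coe_uniSL] using congrFun (congrFun (congrArg Subtype.val h) 0) 1
    · simpa [Classical.GL2.coe_uniSL] using congrFun (congrFun (congrArg Subtype.val h) 0) 1
  have hord : ∀ X : SL(2, F), (X : Matrix (Fin 2) (Fin 2) F).trace = 2 → KleinPSL.pi F X ≠ 1 →
      orderOf (KleinPSL.pi F X) = p := fun X ht hX =>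
    (DicksonAction.orderOf_iff p X hX).2 (by rw [ht]; norm_num)
  set u := KleinPSL.pi F (Classical.GL2.uniSL a₁) with hu
  set v := KleinPSL.pi F (Classical.GL2.lowSL b) with hv
  have hu1 : u ≠ 1 := fun e => ha₁ (hpi1 _ e)
  have hv1 : v ≠ 1 := fun e => hb (by
    rcases KleinPSL.pi_eq_one.1 e with h | h <;>
      simpa [Classical.GL2.coe_lowSL] using congrFun (congrFun (congrArg Subtype.val h) 1) 0)
  have hou : orderOf u = p := hord _ (by simp [Classical.GL2.coe_uniSL, trace_fin_two]; norm_num) hu1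
  have hov : orderOf v = p := hord _ (by simp [Classical.GL2.coe_lowSL, trace_fin_two]; norm_num) hv1
  have huH : u ∈ H := ⟨_, hup, rfl⟩
  have hvH : v ∈ H := ⟨_, hlow, rfl⟩
  have huv : u * v ≠ v * u := fun e => by
    rw [hu, hv, ← map_mul, ← map_mul, KleinPSL.pi_eq_iff] at e
    rcases e with e | e
    · have := congrFun (congrFun (congrArg Subtype.val e) 0) 0
      simp [Classical.GL2.coe_uniSL, Classical.GL2.coe_lowSL, Matrix.mul_apply, Fin.sum_univ_two] at this
      tauto
    · have h01 := congrFun (congrFun (congrArg Subtype.val e) 0) 1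
      have h11 := congrFun (congrFun (congrArg Subtype.val e) 1) 1
      simp [Classical.GL2.coe_uniSL, Classical.GL2.coe_lowSL, Matrix.mul_apply, Fin.sum_univ_two] at h01 h11
      have h20 : (2 : F) = 0 := (mul_eq_zero.1 (show (2 : F) * a₁ = 0 by linear_combination h01)).resolve_right ha₁
      exact mul_ne_zero hb ha₁ (by linear_combination h11 - h20)
  have hpu : u ^ p = 1 := by rw [← hou, pow_orderOf_eq_one]
  have hpv : v ^ p = 1 := by rw [← hov, pow_orderOf_eq_one]
  rcases DicksonModular.classify_modular hTH (u := (⟨u, huH⟩ : H))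
      (by rw [← Subgroup.orderOf_coe]; exact hou) with ⟨x, -, hfix⟩ | ⟨c, -, hc, ⟨e⟩⟩ | ⟨hp3, ⟨e⟩⟩ | ⟨x, htr⟩
  · exact absurd (DicksonMax.comm_of_fix p (hfix ⟨u, huH⟩) (hfix ⟨v, hvH⟩) hpu hpv) huv
  · -- dihedral
    exfalso
    refine huv (DicksonMax.comm_of_dihedral H (g := (c : Matrix.ProjectiveSpecialLinearGroup (Fin 2) F))
        (Or.inr ⟨by rw [Subgroup.orderOf_coe]; exact e⟩) huH hvH
        (DicksonMax.sq_ne_one (Fact.out) hp2 hpu hu1) (DicksonMax.sq_ne_one (Fact.out) hp2 hpv hv1))
  · -- alternating group of degree five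
    exfalso
    have h60 : Nat.card (alternatingGroup (Fin 5)) = 60 := by
      rw [nat_card_alternatingGroup, Nat.card_fin]; rfl
    have hd := Subgroup.card_subgroup_dvd_card H
    rw [Nat.card_congr e.toEquiv, h60] at hd
    refine h5 hp3 ?_
    rw [← DicksonCor.gcd_mul_natCard]
    exact Dvd.dvd.mul_left ((by norm_num : 5 ∣ 60).trans hd) _
  · exact ⟨x, htr⟩

/-- the image is everything once the coefficients span a field -/
theorem map_pi_eq_top (p : ℕ) [CharP F p] [Fact p.Prime] (G : Subgroup SL(2, F))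
    (htr : ∃ x, DicksonModular.Transitive' ((DicksonAction.twoPt (F := F) p).subgroup (G.map (KleinPSL.pi F))) x)
    (A : AddSubgroup F) (hA : ∀ a ∈ A, Classical.GL2.uniSL a ∈ G) {a₁ b : F} (h1 : a₁ ∈ A) (ha₁ : a₁ ≠ 0)
    (hlow : Classical.GL2.lowSL b ∈ G)
    (hgen : ∀ S : Subfield F, (∀ a ∈ A, a / a₁ ∈ S) → a₁ * b ∈ S → S = ⊤) :
    G.map (KleinPSL.pi F) = ⊤ := by
  classical
  obtain ⟨x, hx⟩ := htr
  obtain ⟨K, iK, fK, m, f, γ, hm, hlo, hhi⟩ := DicksonField.transitive_embedding p _ hx
  set S := f.fieldRange with hS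
  have hT : ∀ X ∈ G, (X : Matrix (Fin 2) (Fin 2) F).trace = 2 → ∀ i j,
      ((γ : Matrix (Fin 2) (Fin 2) F) * (X : SL(2, F)) *
        ((γ⁻¹ : GL (Fin 2) F) : Matrix (Fin 2) (Fin 2) F)) i j ∈ S := by
    intro X hXG hXt i j
    obtain ⟨k, hk⟩ := hhi ⟨_, ⟨_, ⟨_, hXG, rfl⟩, rfl⟩, rfl⟩
    obtain ⟨g, rfl⟩ := Matrix.ProjGenLinGroup.mk_surjective k
    set T : GL (Fin 2) F := γ * Matrix.SpecialLinearGroup.toGL X * γ⁻¹ with hTdef
    have hk' : Matrix.ProjGenLinGroup.mk (GeneralLinearGroup.map f g) = Matrix.ProjGenLinGroup.mk T := by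
      rw [← DicksonField.pglMap_mk, hk]
      simp [hTdef, Matrix.ProjectiveSpecialLinearGroup.toPGL_mk, KleinPSL.pi]
    obtain ⟨s, hs⟩ : ∃ s : Fˣ, GeneralLinearGroup.scalar (Fin 2) s = (GeneralLinearGroup.map f g)⁻¹ * T := by
      have e : (GeneralLinearGroup.map f g)⁻¹ * T ∈ Subgroup.center (GL (Fin 2) F) := by
        rw [← Matrix.ProjGenLinGroup.mk_eq_one, map_mul, map_inv, hk', inv_mul_cancel]
      rw [GeneralLinearGroup.center_eq_range_scalar] at e
      exact e
    have hval : ∀ i j, (T : Matrix (Fin 2) (Fin 2) F) i j = f ((g : Matrix (Fin 2) (Fin 2) K) i j) * (s : F) := by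
      intro i j
      rw [show T = GeneralLinearGroup.map f g * GeneralLinearGroup.scalar (Fin 2) s by rw [hs, mul_inv_cancel_left]]
      simp [Matrix.mul_apply, Fin.sum_univ_two]
      fin_cases j <;> simp
    have htr : (T : Matrix (Fin 2) (Fin 2) F).trace = 2 := by
      rw [hTdef, Units.val_mul, Matrix.trace_mul_comm, ← Units.val_mul, ← mul_assoc, inv_mul_cancel, one_mul]
      simpa using hXt
    have hdet : (T : Matrix (Fin 2) (Fin 2) F).det = 1 := by
      rw [hTdef, Units.val_mul, Units.val_mul, Matrix.det_units_conj]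
      simp
    have hs' : (s : F) ∈ S := by
      by_cases h2 : (2 : F) = 0
      · rw [det_fin_two, hval, hval, hval, hval] at hdet
        have hK2 : CharP K 2 := CharTwo.of_one_ne_zero_of_two_eq_zero one_ne_zero
          (f.injective (by rw [map_ofNat, map_zero, h2]))
        obtain ⟨t, ht⟩ := FiniteField.isSquare_of_char_two (ringChar.eq K 2) ((g : Matrix (Fin 2) (Fin 2) K).det)⁻¹
        have h' : (s : F) * s = f t * f t := by
          rw [← map_mul, ← ht, map_inv₀, det_fin_two]
          refine eq_inv_of_mul_eq_one_left ?_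
          simp only [map_sub, map_mul]
          linear_combination hdet
        rcases mul_self_eq_mul_self_iff.1 h' with e | e
        · exact ⟨t, e.symm⟩
        · exact ⟨-t, by rw [map_neg, e]⟩
      · rw [trace_fin_two, hval, hval, ← add_mul, ← map_add] at htr
        refine ⟨2 / (g.val 0 0 + g.val 1 1), ?_⟩
        rw [map_div₀, map_ofNat, div_eq_iff (fun e => h2 (by rw [← htr, e, zero_mul]))]
        linear_combination -htr
    show (T : Matrix (Fin 2) (Fin 2) F) i j ∈ S
    rw [hval]
    exact mul_mem ⟨_, rfl⟩ hs'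
  -- a non-zero entry of the conjugated nilpotent
  set N := (γ : Matrix (Fin 2) (Fin 2) F) * !![0, 1; 0, 0] * ((γ⁻¹ : GL (Fin 2) F) : Matrix (Fin 2) (Fin 2) F)
  have hTN : ∀ a, (γ : Matrix (Fin 2) (Fin 2) F) * (Classical.GL2.uniSL a : SL(2, F)) *
      ((γ⁻¹ : GL (Fin 2) F) : Matrix (Fin 2) (Fin 2) F) = 1 + a • N := by
    intro a
    have e : ((Classical.GL2.uniSL a : SL(2, F)) : Matrix (Fin 2) (Fin 2) F) = 1 + a • !![0, 1; 0, 0] := by
      rw [Classical.GL2.coe_uniSL]
      ext i j
      fin_cases i <;> fin_cases j <;> simp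
    rw [e, mul_add, add_mul, mul_one, Matrix.mul_smul, Matrix.smul_mul]
    simp [N]
  obtain ⟨i, j, hij⟩ : ∃ i j, N i j ≠ 0 := by
    by_contra hc
    push Not at hc
    have h0 : N = 0 := Matrix.ext hc
    have := congrArg (fun X => ((γ⁻¹ : GL (Fin 2) F) : Matrix (Fin 2) (Fin 2) F) * X * (γ : Matrix (Fin 2) (Fin 2) F)) h0
    simp only [N, ← Matrix.mul_assoc, Units.inv_mul, Matrix.one_mul, mul_zero, zero_mul] at this
    rw [Matrix.mul_assoc, Units.inv_mul, Matrix.mul_one] at this
    simpa using congrFun (congrFun this 0) 1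
  have hent' : ∀ i j, ∀ a ∈ A, a * N i j ∈ S := fun i j a ha => by
    have := hT _ (hA a ha) (by simp [Classical.GL2.coe_uniSL, trace_fin_two]; norm_num) i j
    rw [hTN] at this
    rw [show a * N i j = (1 + a • N) i j - (1 : Matrix (Fin 2) (Fin 2) F) i j by simp]
    refine sub_mem this ?_
    rw [Matrix.one_apply]
    split_ifs <;> simp [one_mem, zero_mem]
  have hent := hent' i j
  set N' := (γ : Matrix (Fin 2) (Fin 2) F) * !![0, 0; 1, 0] * ((γ⁻¹ : GL (Fin 2) F) : Matrix (Fin 2) (Fin 2) F)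
  have hent2 : ∀ i j, b * N' i j ∈ S := fun i j => by
    have e : ((Classical.GL2.lowSL b : SL(2, F)) : Matrix (Fin 2) (Fin 2) F) = 1 + b • !![0, 0; 1, 0] := by
      rw [Classical.GL2.coe_lowSL]
      ext i j
      fin_cases i <;> fin_cases j <;> simp
    have := hT _ hlow (by simp [Classical.GL2.coe_lowSL, trace_fin_two]; norm_num) i j
    rw [e, mul_add, add_mul, mul_one, Matrix.mul_smul, Matrix.smul_mul] at this
    have h' : (γ : Matrix (Fin 2) (Fin 2) F) * ((γ⁻¹ : GL (Fin 2) F) : Matrix (Fin 2) (Fin 2) F) = 1 := γ.mul_inv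
    rw [h', Matrix.add_apply, Matrix.smul_apply, smul_eq_mul] at this
    have h1' : (1 : Matrix (Fin 2) (Fin 2) F) i j ∈ S := by
      rw [Matrix.one_apply]
      split_ifs <;> simp [one_mem, zero_mem]
    have h2' := sub_mem this h1'
    rwa [add_sub_cancel_left] at h2'
  have hprod : a₁ * b ∈ S := by
    have e : (N * N').trace = 1 := by
      have h' : ((γ⁻¹ : GL (Fin 2) F) : Matrix (Fin 2) (Fin 2) F) * (γ : Matrix (Fin 2) (Fin 2) F) = 1 := γ.inv_mul
      have e1 : N * N' = (γ : Matrix (Fin 2) (Fin 2) F) * (!![0, 1; 0, 0] * !![0, 0; 1, 0]) *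
          ((γ⁻¹ : GL (Fin 2) F) : Matrix (Fin 2) (Fin 2) F) := by
        simp only [N, N', Matrix.mul_assoc]
        rw [← Matrix.mul_assoc ((γ⁻¹ : GL (Fin 2) F) : Matrix (Fin 2) (Fin 2) F) (γ : Matrix (Fin 2) (Fin 2) F), h',
          Matrix.one_mul]
      rw [e1, Matrix.trace_mul_comm, ← Matrix.mul_assoc, h', Matrix.one_mul]
      simp [trace_fin_two]
    rw [← mul_one (a₁ * b), ← e, Matrix.trace, Finset.mul_sum]
    refine sum_mem fun k _ => ?_
    rw [Matrix.diag_apply, Matrix.mul_apply, Finset.mul_sum]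
    refine sum_mem fun l _ => ?_
    rw [show a₁ * b * (N k l * N' l k) = (a₁ * N k l) * (b * N' l k) by ring]
    exact mul_mem (hent' k l a₁ h1) (hent2 l k)
  have htop : S = ⊤ := hgen S (fun a ha => by
    rw [← mul_div_mul_right a a₁ hij]
    exact S.div_mem (hent a ha) (hent a₁ h1)) hprod
  have hbij : Function.Bijective f := ⟨f.injective, fun y => by
    have : y ∈ S := htop ▸ trivial
    exact this⟩
  refine Subgroup.eq_top_of_card_eq _ (le_antisymm (Subgroup.card_le_card_group _) ?_)
  calc Nat.card (Matrix.ProjectiveSpecialLinearGroup (Fin 2) F)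
      = Nat.card (Matrix.ProjectiveSpecialLinearGroup (Fin 2) K) := by
        have hF' := Classical.SmallIso.natCard_pslTwo F
        have hK' := Classical.SmallIso.natCard_pslTwo K
        rw [Classical.GL2.natCard_SL_two, ← Fintype.card_of_bijective hbij] at hF'
        rw [Classical.GL2.natCard_SL_two, ← hF'] at hK'
        exact (Nat.eq_of_mul_eq_mul_left (Nat.gcd_pos_of_pos_left _ two_pos) hK').symm
    _ = Nat.card ((Matrix.ProjectiveSpecialLinearGroup.toPGL (n := Fin 2) (R := K)).range.map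
        (DicksonField.pglMap f)) := by
        rw [Subgroup.card_map_of_injective (DicksonField.pglMap_injective f)]
        exact Nat.card_congr (MonoidHom.ofInjective Matrix.ProjectiveSpecialLinearGroup.toPGL_injective).toEquiv
    _ ≤ _ := by
        haveI : Finite (Matrix.ProjGenLinGroup (Fin 2) F) :=
          Finite.of_surjective _ Matrix.ProjGenLinGroup.mk_surjective
        refine (Subgroup.card_le_of_le hlo).trans (le_of_eq ?_)
        rw [Subgroup.card_map_of_injective (MulEquiv.injective _),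
          Subgroup.card_map_of_injective Matrix.ProjectiveSpecialLinearGroup.toPGL_injective]

end Dickson

end Cfsg.Agent.Forms.Max.SU3.Subfield
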