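import Mathlib
import Cfsg.Agent.Lib.Forms.Max.Unitary
import Cfsg.Agent.Lib.Forms.Max.SubfieldLinear

/-!
# Rational structures of odd prime index in the unitary space of dimension three
-/

set_option autoImplicit false
set_option linter.unusedSectionVars false

namespace Cfsg.Agent.Forms.Max.SU3.Subfield

open Matrix Cfsg.Agent.Classical.Unitary

variable {F : Type*} [Field F] [Fintype F] {q n : ℕ}

local notation "Idx" => (Fin n)
local notation "Vec" => (Fin n → F)
local notation "GLn" => GL (Fin n) F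
local notation "H" => Cfsg.hermForm n F q
local notation "SUn" => (Cfsg.GU n F q ⊓ Cfsg.Geo.specialLinear (Fin n) F)

/-- a rational structure of the standard unitary space over a subfield of odd prime index -/
structure Data (F : Type*) [Field F] [Fintype F] (q n : ℕ) where
  F₀ : Subfield F
  P : GL (Fin n) F
  hF : Fintype.card F = q ^ 2
  hn : n = 3
  r : ℕ
  hr : r.Prime
  hro : Odd r
  hcard : Fintype.card F = Nat.card F₀ ^ r
  hP : Cfsg.Geo.IsFormRationalStructure (Cfsg.hermForm n F q) F₀ 1 P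

variable (D : Data F q n)

/-- a rational vector -/
def rv (a : Idx → D.F₀) : Vec := (D.P : Matrix Idx Idx F) *ᵥ SubfieldLinear.ic D.F₀ a

theorem rv_add (a b : Idx → D.F₀) : rv D (a + b) = rv D a + rv D b := by
  rw [rv, rv, rv, ← mulVec_add]; rfl

theorem rv_smul (t : D.F₀) (a : Idx → D.F₀) : rv D (t • a) = (t : F) • rv D a := by
  rw [rv, rv, SubfieldLinear.ic_smul, mulVec_smul]

theorem rv_zero : rv D 0 = 0 := by
  rw [rv, show SubfieldLinear.ic D.F₀ (0 : Idx → D.F₀) = 0 from rfl, mulVec_zero]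

theorem rv_sub (a b : Idx → D.F₀) : rv D (a - b) = rv D a - rv D b := by
  rw [eq_sub_iff_add_eq, ← rv_add, sub_add_cancel]

theorem rv_eq_zero {a : Idx → D.F₀} (h : rv D a = 0) : a = 0 := by
  by_contra hne
  exact Max.mulVec_ne_zero D.P (SubfieldLinear.ic_ne_zero hne) h

/-- the rational form, linear in the first vector -/
noncomputable def form0 (a : Idx → D.F₀) : (Idx → D.F₀) →ₗ[D.F₀] D.F₀ where
  toFun x := ⟨H (rv D x) (rv D a), by
    have h := D.hP _ _ (fun i => (x i).2) (fun i => (a i).2)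
    rw [one_mul] at h
    exact h⟩
  map_add' x y := Subtype.ext (by simp [rv_add, H_add_left])
  map_smul' t x := Subtype.ext (by simp [rv_smul, H_smul_left])

theorem form0_coe (a x : Idx → D.F₀) : ((form0 D a x : D.F₀) : F) = H (rv D x) (rv D a) := rfl

theorem H_rat (x y : Idx → D.F₀) : H (rv D x) (rv D y) ∈ D.F₀ := (form0 D y x).2

theorem decomp (v : Vec) : ∃ w : Idx → F, v = ∑ i, w i • rv D (Pi.single i 1) := by
  refine ⟨((D.P⁻¹ : GLn) : Matrix Idx Idx F) *ᵥ v, ?_⟩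
  conv_lhs => rw [← Max.mulVec_inv_cancel D.P v, pi_eq_sum_univ' (((D.P⁻¹ : GLn) : Matrix Idx Idx F) *ᵥ v)]
  rw [mulVec_sum]
  refine Finset.sum_congr rfl fun i _ => ?_
  rw [mulVec_smul, rv, SubfieldLinear.ic_single]

theorem ext_rat {v : Vec} (h : ∀ x, H v (rv D x) = 0) : v = 0 := eq_zero_of_H D.hF fun y => by
  obtain ⟨w, rfl⟩ := decomp D y
  rw [H_sum_right D.hF]
  exact Finset.sum_eq_zero fun i _ => by rw [H_smul_right, h, mul_zero]

theorem ext_rat' {v : Vec} (h : ∀ x, H (rv D x) v = 0) : v = 0 :=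
  ext_rat D fun x => (H_eq_zero_comm D.hF).1 (h x)

theorem pow_mem_F₀ {x : F} (hx : x ∈ D.F₀) : x ^ q ∈ D.F₀ := pow_mem hx q

/-- representation of functionals -/
theorem rep (f : (Idx → D.F₀) →ₗ[D.F₀] D.F₀) :
    ∃ d, ∀ x, H (rv D x) (rv D d) = (f x : F) := by
  classical
  have hinj : Function.Injective fun d : Idx → D.F₀ => fun i => form0 D d (Pi.single i 1) := by
    intro d d' hd
    refine sub_eq_zero.1 (rv_eq_zero D (ext_rat' D fun x => ?_))
    have hl : form0 D d = form0 D d' := LinearMap.pi_ext fun i t => by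
      rw [show (Pi.single i t : Idx → D.F₀) = t • Pi.single i 1 by ext j; simp [Pi.single_apply], map_smul,
        map_smul, show form0 D d (Pi.single i 1) = form0 D d' (Pi.single i 1) from congrFun hd i]
    rw [rv_sub, H_sub_right D.hF, ← form0_coe, ← form0_coe, hl, sub_self]
  obtain ⟨d, hd⟩ := Finite.injective_iff_surjective.1 hinj fun i => f (Pi.single i 1)
  refine ⟨d, fun x => ?_⟩
  rw [← form0_coe, show form0 D d = f from LinearMap.pi_ext fun i t => by
    rw [show (Pi.single i t : Idx → D.F₀) = t • Pi.single i 1 by ext j; simp [Pi.single_apply], map_smul,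
      map_smul, show form0 D d (Pi.single i 1) = f (Pi.single i 1) from congrFun hd i]]

/-- prescribed products -/
theorem exists_dual {a : Idx → D.F₀} {S : Submodule D.F₀ (Idx → D.F₀)} (h : a ∉ S) :
    ∃ e, (∀ s ∈ S, H (rv D s) (rv D e) = 0) ∧ H (rv D a) (rv D e) = 1 := by
  obtain ⟨ψ, hψ, hψS⟩ := Submodule.exists_dual_map_eq_bot_of_notMem h inferInstance
  obtain ⟨e, he⟩ := rep D ((ψ a)⁻¹ • ψ)
  refine ⟨e, fun s hs => ?_, ?_⟩
  · have h0 : ψ s ∈ S.map ψ := Submodule.mem_map_of_mem hs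
    rw [hψS, Submodule.mem_bot] at h0
    rw [he, LinearMap.smul_apply, h0, smul_zero]; rfl
  · rw [he, LinearMap.smul_apply, smul_eq_mul, inv_mul_cancel₀ hψ]; rfl

theorem exists_theta : ∃ θ ∈ D.F₀, θ ^ q ≠ θ := by
  by_contra hc
  push Not at hc
  obtain ⟨j, hj⟩ := D.hro
  haveI := Fintype.ofFinite D.F₀
  have hs1 : 1 < Nat.card D.F₀ := Finite.one_lt_card
  obtain ⟨p, hchar⟩ := CharP.exists F
  haveI := hchar
  obtain ⟨e, hp, hcard⟩ := FiniteField.card F p
  haveI : CharP D.F₀ p := (D.F₀.subtype).charP D.F₀.subtype.injective p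
  obtain ⟨d, -, hd⟩ := FiniteField.card D.F₀ p
  -- the fixed field has at most `q` elements
  have hle : Nat.card D.F₀ ≤ q := by
    classical
    have hne : (Polynomial.X ^ q - Polynomial.X : Polynomial F) ≠ 0 :=
      FiniteField.X_pow_card_sub_X_ne_zero F (HermStd.one_lt_q D.hF)
    rw [Nat.card_eq_fintype_card, Fintype.card_subtype]
    refine (Finset.card_le_card (t := (Polynomial.X ^ q - Polynomial.X : Polynomial F).roots.toFinset)
      fun x hx => ?_).trans ((Multiset.toFinset_card_le _).trans ((Polynomial.card_roots' _).trans ?_))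
    · rw [Finset.mem_filter] at hx
      rw [Multiset.mem_toFinset, Polynomial.mem_roots hne]
      simp [hc x hx.2]
    · rw [FiniteField.X_pow_card_sub_X_natDegree_eq F (HermStd.one_lt_q D.hF)]
  have hpow : ∀ x : D.F₀, x ^ q = x := fun x => Subtype.ext (by push_cast; exact hc _ x.2)
  obtain ⟨g, hg⟩ := IsCyclic.exists_generator (α := D.F₀ˣ)
  have hord : Nat.card D.F₀ - 1 ∣ q - 1 := by
    have hg1 : g ^ q = g := Units.ext (by push_cast; exact hpow _)
    have h0 : g ^ (q - 1) = 1 := mul_right_cancel (b := g) (by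
      rw [← pow_succ, Nat.sub_add_cancel (HermStd.one_lt_q D.hF).le, hg1, one_mul])
    rw [← Nat.card_units, ← orderOf_eq_card_of_forall_mem_zpowers hg]
    exact orderOf_dvd_of_pow_eq_one h0
  have hq : q ^ 2 = Nat.card D.F₀ ^ D.r := D.hF ▸ D.hcard
  have hqp : q ∣ p ^ (e : ℕ) := by rw [← hcard, D.hF]; exact dvd_pow_self q two_ne_zero
  obtain ⟨f, -, hf⟩ := (Nat.dvd_prime_pow hp).1 hqp
  rw [Nat.card_eq_fintype_card, hd] at hord hq
  simp only [hf] at hord hq
  rw [← pow_mul, ← pow_mul] at hq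
  have h2 : f * 2 = (d : ℕ) * D.r := Nat.pow_right_injective hp.two_le hq
  have hdf : (d : ℕ) ∣ f := Nat.dvd_of_mod_eq_zero (by
    have h1 := Nat.gcd_eq_left hord
    rw [Nat.pow_sub_one_gcd_pow_sub_one] at h1
    have h3 := Nat.pow_right_injective hp.two_le (show p ^ Nat.gcd d f = p ^ (d : ℕ) by
      have h4 := Nat.one_le_pow (Nat.gcd d f) p hp.pos
      have h5 := Nat.one_le_pow (d : ℕ) p hp.pos
      omega)
    exact Nat.mod_eq_zero_of_dvd (h3 ▸ Nat.gcd_dvd_right _ _))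
  obtain ⟨m, rfl⟩ := hdf
  have h3 : m * 2 = D.r := Nat.eq_of_mul_eq_mul_left d.pos (by rw [← mul_assoc, h2])
  omega

theorem exists_skew : ∃ ζ : F, ζ ∈ D.F₀ ∧ ζ ≠ 0 ∧ ζ + ζ ^ q = 0 := by
  obtain ⟨θ, hθ, hne⟩ := exists_theta D
  refine ⟨θ - θ ^ q, sub_mem hθ (pow_mem_F₀ D hθ), sub_ne_zero.2 hne.symm, ?_⟩
  rw [← HermStd.qHom_apply D.hF, ← HermStd.qHom_apply D.hF, map_sub, HermStd.qHom_qHom]
  ring

theorem trace_rat {d : F} (hd : d ∈ D.F₀) (hdq : d ^ q = d) : ∃ β ∈ D.F₀, β + β ^ q = d := by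
  obtain ⟨θ, hθ, hne⟩ := exists_theta D
  set δ := θ - θ ^ q with hδ
  have hδ0 : δ ≠ 0 := sub_ne_zero.2 hne.symm
  refine ⟨θ * (d / δ), mul_mem hθ (D.F₀.div_mem hd (sub_mem hθ (pow_mem_F₀ D hθ))), ?_⟩
  have hδq : δ ^ q = -δ := by
    rw [hδ, ← HermStd.qHom_apply D.hF, ← HermStd.qHom_apply D.hF, map_sub, HermStd.qHom_qHom]
    ring
  rw [mul_pow, div_pow, hdq, hδq, div_neg, mul_neg, ← sub_eq_add_neg, ← sub_mul, ← hδ, mul_div_cancel₀ _ hδ0]

theorem norm_rat {d : F} (hd : d ∈ D.F₀) (hdq : d ^ q = d) : ∃ t ∈ D.F₀, t ^ q * t = d := by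
  obtain ⟨θ, hθ, hne⟩ := exists_theta D
  let σ : D.F₀ →+* D.F₀ :=
    ((HermStd.qHom D.hF).comp D.F₀.subtype).codRestrict D.F₀ fun x => pow_mem_F₀ D x.2
  obtain ⟨c, hc⟩ := Bases.exists_norm_eq σ (fun e => hne (congrArg Subtype.val (RingHom.congr_fun e ⟨θ, hθ⟩)))
    (fun a => Subtype.ext (HermStd.qHom_qHom D.hF (a : F))) ⟨d, hd⟩ (Subtype.ext hdq)
  exact ⟨c, c.2, congrArg Subtype.val hc⟩

theorem add_iso {a : Idx → D.F₀} (ha : H (rv D a) (rv D a) = 0) {x : Idx → D.F₀}
    (hxa : H (rv D x) (rv D a) ≠ 0) :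
    ∃ t : D.F₀, H (rv D (x + t • a)) (rv D (x + t • a)) = 0 := by
  obtain ⟨β, hβ, hβ'⟩ := trace_rat D (neg_mem (H_rat D x x))
    (by rw [← HermStd.qHom_apply D.hF, map_neg, HermStd.qHom_apply, H_conj D.hF])
  have h1 : H (rv D a) (rv D x) = H (rv D x) (rv D a) ^ q := (H_conj D.hF _ _).symm
  refine ⟨⟨(β / H (rv D x) (rv D a)) ^ q, pow_mem_F₀ D (D.F₀.div_mem hβ (H_rat D x a))⟩, ?_⟩
  simp only [rv_add, rv_smul, H_add_left, H_add_right D.hF, H_smul_left, H_smul_right, ha, h1, mul_zero, add_zero,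
    pow_qq D.hF]
  rw [← mul_pow, div_mul_cancel₀ _ hxa]
  linear_combination hβ'

theorem exists_partner {a : Idx → D.F₀} (ha : a ≠ 0) (haa : H (rv D a) (rv D a) = 0) :
    ∃ f, H (rv D f) (rv D f) = 0 ∧ H (rv D f) (rv D a) = 1 ∧ H (rv D a) (rv D f) = 1 := by
  obtain ⟨e, -, he⟩ := exists_dual D (a := a) (S := ⊥) (by simpa using ha)
  have he' : H (rv D e) (rv D a) = 1 := by rw [← H_conj D.hF, he, one_pow]
  obtain ⟨t, ht⟩ := add_iso D haa (x := e) (by rw [he']; exact one_ne_zero)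
  refine ⟨_, ht, ?_, ?_⟩ <;> simp [rv_add, rv_smul, H_add_left, H_add_right D.hF, H_smul_left, H_smul_right,
    haa, he, he']

theorem finrank_ker {k : ℕ} (L : (Idx → D.F₀) →ₗ[D.F₀] (Fin k → D.F₀)) :
    n ≤ Module.finrank D.F₀ (LinearMap.ker L) + k := by
  have h3 := LinearMap.finrank_range_add_finrank_ker L
  have h4 := Submodule.finrank_le (LinearMap.range L)
  rw [Module.finrank_fintype_fun_eq_card, Fintype.card_fin] at h4 h3
  omega

theorem exists_iso_in {S : Submodule D.F₀ (Idx → D.F₀)} (h2 : 2 ≤ Module.finrank D.F₀ S) :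
    ∃ x ∈ S, x ≠ 0 ∧ H (rv D x) (rv D x) = 0 := by
  obtain ⟨a, ha, ha0⟩ := Submodule.exists_mem_ne_zero_of_ne_bot (p := S) (fun h => by
    rw [h, finrank_bot] at h2; omega)
  by_cases haa : H (rv D a) (rv D a) = 0
  · exact ⟨a, ha, ha0, haa⟩
  obtain ⟨b, hb, hb0⟩ := Submodule.exists_mem_ne_zero_of_ne_bot (p := S ⊓ LinearMap.ker (form0 D a)) (fun h => by
    have h1 := Submodule.finrank_sup_add_finrank_inf_eq S (LinearMap.ker (form0 D a))
    have h2' := Submodule.finrank_le (S ⊔ LinearMap.ker (form0 D a))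
    have h3 := LinearMap.finrank_range_add_finrank_ker (form0 D a)
    have h4 := Submodule.finrank_le (LinearMap.range (form0 D a))
    rw [Module.finrank_self] at h4
    rw [Module.finrank_fintype_fun_eq_card, Fintype.card_fin] at h2' h3
    rw [h, finrank_bot] at h1
    omega)
  have hba : H (rv D b) (rv D a) = 0 := by rw [← form0_coe, LinearMap.mem_ker.1 hb.2]; rfl
  by_cases hbb : H (rv D b) (rv D b) = 0
  · exact ⟨b, hb.1, hb0, hbb⟩
  obtain ⟨t, ht, ht'⟩ := norm_rat D (d := -(H (rv D b) (rv D b) / H (rv D a) (rv D a)))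
    (neg_mem (D.F₀.div_mem (H_rat D b b) (H_rat D a a)))
    (by rw [← HermStd.qHom_apply D.hF, map_neg, map_div₀, HermStd.qHom_apply, HermStd.qHom_apply, H_conj D.hF,
      H_conj D.hF])
  refine ⟨b + (⟨t, ht⟩ : D.F₀) • a, S.add_mem hb.1 (S.smul_mem _ ha), fun e => ?_, ?_⟩
  · have e1 := congrArg (fun v => H (rv D v) (rv D a)) e
    simp only [rv_add, rv_smul, rv_zero, H_add_left, H_smul_left, hba, zero_add, H_zero_left] at e1
    rcases mul_eq_zero.1 e1 with e2 | e2
    · exact hbb (by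
        rw [e2, mul_zero, eq_comm, neg_eq_zero, div_eq_zero_iff] at ht'
        exact ht'.resolve_right haa)
    · exact haa e2
  · simp only [rv_add, rv_smul, H_add_left, H_add_right D.hF, H_smul_left, H_smul_right, hba,
      (H_eq_zero_comm D.hF).1 hba, mul_zero, add_zero, zero_add]
    field_simp at ht'
    linear_combination ht'

/-- the transvections with centre `v` and coefficient `c` lie in `M` -/
def InM (q : ℕ) (M : Subgroup GLn) (v : Vec) (c : F) : Prop :=
  ∀ g : GLn, (∀ x, (g : Matrix Idx Idx F) *ᵥ x = x + (c * Cfsg.hermForm n F q x v) • v) → g ∈ M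

variable {M : Subgroup (GL (Fin n) F)}

theorem inM_of {v : Vec} {c : F} {s : GLn} (hs : s ∈ M)
    (h : ∀ x, (s : Matrix Idx Idx F) *ᵥ x = x + (c * H x v) • v) : InM q M v c := fun g hg => by
  rwa [show g = s from Max.gl_ext fun x => by rw [hg, h]]

theorem inM_zero {c : F} : InM q M (0 : Vec) c := inM_of (one_mem M) fun x => by simp

theorem inM_coeff_zero {v : Vec} : InM q M v 0 := inM_of (one_mem M) fun x => by simp

theorem inM_smul (hF : Fintype.card F = q ^ 2) {v : Vec} {c : F} (k : F) (h : InM q M v (c * (k ^ q * k))) :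
    InM q M (k • v) c := fun g hg => h g fun x => by
  rw [hg, H_smul_right, smul_smul]
  congr 2
  ring

theorem exists_tvM {v : Vec} (hF : Fintype.card F = q ^ 2) (hv : H v v = 0) {c : F} (hc : c + c ^ q = 0)
    (h : InM q M v c) : ∃ s ∈ M, ∀ x, (s : Matrix Idx Idx F) *ᵥ x = x + (c * H x v) • v := by
  obtain ⟨s, -, hs⟩ := Unitary.exists_tv hF hv hc
  exact ⟨s, h s hs, hs⟩

theorem inM_add {v : Vec} (hF : Fintype.card F = q ^ 2) (hv : H v v = 0) {c d : F} (hc : c + c ^ q = 0)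
    (hd : d + d ^ q = 0) (h : InM q M v c) (h' : InM q M v d) : InM q M v (c + d) := by
  obtain ⟨s, hs, hsx⟩ := exists_tvM hF hv hc h
  obtain ⟨s', hs', hsx'⟩ := exists_tvM hF hv hd h'
  refine inM_of (mul_mem hs hs') fun x => ?_
  simp only [Max.mulVec_mul_GL, hsx, hsx', H_add_left, H_smul_left, hv]
  module

theorem inM_neg {v : Vec} (hF : Fintype.card F = q ^ 2) (hv : H v v = 0) {c : F} (hc : c + c ^ q = 0)
    (h : InM q M v c) : InM q M v (-c) := by
  obtain ⟨s, hs, hsx⟩ := exists_tvM hF hv hc h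
  refine inM_of (inv_mem hs) fun x => Max.mulVec_inj s ?_
  rw [Max.mulVec_inv_cancel]
  simp only [hsx, H_add_left, H_smul_left, hv]
  module

theorem inM_map (hF : Fintype.card F = q ^ 2) (hMK : M ≤ SUn) {g : GLn} (hg : g ∈ M) {v : Vec}
    (hv : H v v = 0) {c : F} (hc : c + c ^ q = 0) (h : InM q M v c) :
    InM q M ((g : Matrix Idx Idx F) *ᵥ v) c := fun t ht => by
  obtain ⟨s, hs, hsx⟩ := exists_tvM hF hv hc h
  have e : g * s * g⁻¹ = t := by
    rw [mul_inv_eq_iff_eq_mul]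
    refine Max.gl_ext fun x => ?_
    rw [Max.mulVec_mul_GL, Max.mulVec_mul_GL, hsx, ht, mulVec_add, mulVec_smul, Unitary.SUn_H (hMK hg)]
  exact e ▸ mul_mem (mul_mem hg hs) (inv_mem hg)

/-- every rational root transvection lies in `M` -/
def RatRoots (D : Data F q n) (M : Subgroup (GL (Fin n) F)) : Prop :=
  ∀ (a : Fin n → D.F₀) (c : F), Cfsg.hermForm n F q (rv D a) (rv D a) = 0 → c ∈ D.F₀ → c + c ^ q = 0 →
    InM q M (rv D a) c

end Cfsg.Agent.Forms.Max.SU3.Subfield
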