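import Mathlib
import Cfsg.Agent.Lib.Forms.Max.SU3.Subfield.Setup
import Cfsg.Agent.Lib.Forms.Max.SU3.Subfield.Dickson

/-!
# Root elements on a hyperbolic line of the unitary space of dimension three
-/

set_option autoImplicit false
set_option linter.unusedSectionVars false

namespace Cfsg.Agent.Forms.Max.SU3.Subfield

open Matrix Cfsg.Agent.Classical.Unitary
open scoped MatrixGroups

variable {F : Type*} [Field F] [Fintype F] {q n : ℕ}

local notation "Idx" => (Fin n)
local notation "Vec" => (Fin n → F)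
local notation "GLn" => GL (Fin n) F
local notation "H" => Cfsg.hermForm n F q
local notation "SUn" => (Cfsg.GU n F q ⊓ Cfsg.Geo.specialLinear (Fin n) F)

variable (hF : Fintype.card F = q ^ 2)
include hF

/-- two orthogonal isotropic vectors are dependent in dimension three -/
theorem iso_dep (hn : n = 3) {p p' : Vec} (hp : p ≠ 0) (hpp : H p p = 0) (hp'p' : H p' p' = 0)
    (h : H p p' = 0) : ∃ l : F, p' = l • p := by
  by_contra hc
  push Not at hc
  have hli : LinearIndependent F ![p, p'] :=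
    (LinearIndependent.pair_iff' hp).2 fun l e => hc l e.symm
  let W : Submodule F Vec := Submodule.span F (Set.range ![p, p'])
  have hW : W ≤ Unitary.perp q W := by
    rw [Submodule.span_le]
    rintro _ ⟨i, rfl⟩
    refine Unitary.mem_perp.2 fun w hw => ?_
    obtain ⟨c, rfl⟩ := (Submodule.mem_span_range_iff_exists_fun F).1 hw
    have h' : H p' p = 0 := (H_eq_zero_comm hF).1 h
    fin_cases i <;> simp [Fin.sum_univ_two, H_add_right hF, H_smul_right, hpp, hp'p', h, h']
  have h1 := Submodule.finrank_mono hW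
  have h2 := Unitary.finrank_perp hF W
  rw [show Module.finrank F W = 2 by simpa [W] using finrank_span_eq_card hli] at h1 h2
  omega

/-- the pole of a hyperbolic line -/
theorem exists_pole (hn : n = 3) {p u : Vec} (hpp : H p p = 0) (huu : H u u = 0) (hh : H u p ≠ 0) :
    ∃ z, H z z ≠ 0 ∧ H z p = 0 ∧ H z u = 0 ∧ ∀ x, ∃ a b c : F, x = a • p + b • u + c • z := by
  let W : Submodule F Vec := Submodule.span F (Set.range ![p, u])
  have h2 := Unitary.finrank_perp hF W
  have h3 : Module.finrank F W ≤ 2 := (finrank_range_le_card ![p, u]).trans_eq (Fintype.card_fin 2)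
  obtain ⟨z, hz, hz0⟩ := Submodule.exists_mem_ne_zero_of_ne_bot (p := Unitary.perp q W) (fun h => by
    rw [h, finrank_bot] at h2; omega)
  have hzp : H z p = 0 := Unitary.mem_perp.1 hz p (Submodule.subset_span ⟨0, rfl⟩)
  have hzu : H z u = 0 := Unitary.mem_perp.1 hz u (Submodule.subset_span ⟨1, rfl⟩)
  have hp : p ≠ 0 := fun e => hh (by rw [e, H_zero_right hF])
  have hzz : H z z ≠ 0 := fun e => by
    obtain ⟨l, hl⟩ := iso_dep hF hn hp hpp e ((H_eq_zero_comm hF).1 hzp)
    rw [hl, H_smul_left] at hzu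
    rcases mul_eq_zero.1 hzu with h | h
    · exact hz0 (by rw [hl, h, zero_smul])
    · exact hh ((H_eq_zero_comm hF).1 h)
  have hli : LinearIndependent F ![p, u, z] := by
    refine Fintype.linearIndependent_iff.2 fun c hc => ?_
    simp only [Fin.sum_univ_three, Matrix.cons_val_zero, Matrix.cons_val_one, Matrix.cons_val_two,
      Matrix.tail_cons, Matrix.head_cons] at hc
    have e1 := congrArg (fun v => H v u) hc
    have e2 := congrArg (fun v => H v p) hc
    have e3 := congrArg (fun v => H v z) hc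
    simp only [H_add_left, H_smul_left, hpp, huu, hzp, hzu, (H_eq_zero_comm hF).1 hzp,
      (H_eq_zero_comm hF).1 hzu, H_zero_left, mul_zero, add_zero, zero_add] at e1 e2 e3
    intro i
    fin_cases i
    exacts [(mul_eq_zero.1 e1).resolve_right (fun h => hh ((H_eq_zero_comm hF).1 h)),
      (mul_eq_zero.1 e2).resolve_right hh, (mul_eq_zero.1 e3).resolve_right hzz]
  have hsp := hli.span_eq_top_of_card_eq_finrank
    (by rw [Module.finrank_fintype_fun_eq_card, Fintype.card_fin, Fintype.card_fin, hn])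
  refine ⟨z, hzz, hzp, hzu, fun x => ?_⟩
  obtain ⟨c, hc⟩ := (Submodule.mem_span_range_iff_exists_fun F).1 (hsp ▸ Submodule.mem_top : x ∈ _)
  exact ⟨c 0, c 1, c 2, by simpa [Fin.sum_univ_three] using hc.symm⟩

/-- the fixed field of the conjugation -/
def fixK : Subfield F := RingHom.eqLocusField (HermStd.qHom hF) (RingHom.id F)

theorem mem_fixK {x : F} : x ∈ fixK hF ↔ x ^ q = x := by
  rw [fixK, RingHom.mem_eqLocusField, HermStd.qHom_apply, RingHom.id_apply]

variable {M : Subgroup (GL (Fin n) F)}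

/-- a centre moves to every point which has a root element and is not orthogonal to it -/
theorem centre_step (hMK : M ≤ SUn) {e f : Vec} (he : e ∈ Unitary.centres q M) (hff : H f f = 0) {c : F}
    (hc0 : c ≠ 0) (hc : c + c ^ q = 0) (hf : InM q M f c) (hh : H e f ≠ 0) :
    f ∈ Unitary.centres q M := by
  obtain ⟨s, hs, hsx⟩ := exists_tvM hF hff hc hf
  have h1 := Unitary.centres_map hF hMK hs he
  rw [hsx] at h1
  set h := H e f
  set d := -(c * (h * h ^ q))⁻¹ with hd
  have hds : d + d ^ q = 0 := by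
    have hN : (h * h ^ q) ^ q = h * h ^ q := by rw [mul_pow, pow_qq hF, mul_comm]
    rw [← HermStd.qHom_apply hF d, hd, map_neg, map_inv₀, HermStd.qHom_apply, mul_pow, hN,
      eq_neg_of_add_eq_zero_right hc, neg_mul, inv_neg, neg_neg, neg_add_cancel]
  obtain ⟨t, -, htx⟩ := Unitary.exists_tv hF he.1 hds
  have h2 := Unitary.centres_map hF hMK (he.2 t d hds htx) h1
  have e1 : H (e + (c * h) • f) e = c * (h * h ^ q) := by
    rw [H_add_left, H_smul_left, he.1, ← H_conj hF e f]
    ring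
  have hne : c * (h * h ^ q) ≠ 0 := mul_ne_zero hc0 (mul_ne_zero hh (pow_ne_zero _ hh))
  rw [htx, e1, hd, neg_mul, inv_mul_cancel₀ hne, neg_one_smul, add_neg_cancel_comm] at h2
  have h3 := Unitary.centres_smul hF (c * h)⁻¹ h2
  rwa [inv_smul_smul₀ (mul_ne_zero hc0 hh)] at h3

set_option maxHeartbeats 1000000 in
/-- root elements at two non-orthogonal centres generating the fixed field give a full root group -/
theorem plane_full (hn : n = 3) (hMK : M ≤ SUn) {p u : Vec} (hpp : H p p = 0) (huu : H u u = 0)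
    (hh : H u p ≠ 0) {ζ : F} (hζ0 : ζ ≠ 0) (hζ : ζ + ζ ^ q = 0) (hu : InM q M u ζ) {a₁ : F} (ha₁ : a₁ ≠ 0)
    (ha₁q : a₁ ^ q = a₁) (hp₁ : InM q M p (a₁ * ζ))
    (hgen : ∀ S : Subfield F, (∀ a, a ^ q = a → InM q M p (a * ζ) → a / a₁ ∈ S) →
      a₁ * (ζ * ζ * (H u p * H u p ^ q)) ∈ S → ∀ x, x ^ q = x → x ∈ S)
    (hcase : (∃ a, a ^ q = a ∧ InM q M p (a * ζ) ∧ ∀ k : ℤ, a ≠ k * a₁) ∨
      ∀ (r : ℕ) [CharP F r], r ≠ 2 ∧ (r = 3 → ¬ 5 ∣ q * ((q - 1) * (q + 1)))) :
    p ∈ Unitary.centres q M := by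
  classical
  obtain ⟨z, hzz, hzp, hzu, hbas⟩ := exists_pole hF hn hpp huu hh
  set h := H u p with hhdef
  set K := fixK hF with hK
  haveI : Fintype K := Fintype.ofFinite K
  have hζq : ζ ^ q = -ζ := eq_neg_of_add_eq_zero_right hζ
  have hskew : ∀ k : F, k ^ q = k → k * ζ + (k * ζ) ^ q = 0 := fun k hk => by
    rw [mul_pow, hk, ← mul_add, hζ, mul_zero]
  set e₁ := (ζ * h) • p with he₁
  set b := ζ * ζ * (h * h ^ q) with hb
  have hbq : b ^ q = b := by
    rw [hb, mul_pow, mul_pow, mul_pow, hζq, pow_qq hF]; ring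
  let G : Subgroup SL(2, K) :=
    { carrier := {X | ∃ g ∈ M,
        (g : Matrix Idx Idx F) *ᵥ e₁ = (X 0 0 : F) • e₁ + (X 1 0 : F) • u ∧
        (g : Matrix Idx Idx F) *ᵥ u = (X 0 1 : F) • e₁ + (X 1 1 : F) • u ∧
        (g : Matrix Idx Idx F) *ᵥ z = z}
      one_mem' := ⟨1, one_mem M, by simp, by simp, by simp⟩
      mul_mem' := by
        rintro X Y ⟨g, hg, e1, e2, e3⟩ ⟨k, hk, f1, f2, f3⟩
        refine ⟨g * k, mul_mem hg hk, ?_, ?_, by rw [Max.mulVec_mul_GL, f3, e3]⟩
        all_goals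
          rw [show ((X * Y : SL(2, K)) : Matrix (Fin 2) (Fin 2) K) =
            (X : Matrix (Fin 2) (Fin 2) K) * (Y : Matrix (Fin 2) (Fin 2) K) from rfl]
          simp only [Max.mulVec_mul_GL, f1, f2, mulVec_add, mulVec_smul, e1, e2, Matrix.mul_apply,
            Fin.sum_univ_two]
          push_cast
          module
      inv_mem' := by
        rintro X ⟨g, hg, e1, e2, e3⟩
        have hd := congrArg (fun k : K => (k : F)) X.det_coe
        simp only [Matrix.det_fin_two] at hd
        push_cast at hd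
        have ei : ((X⁻¹ : SL(2, K)) : Matrix (Fin 2) (Fin 2) K) = !![X 1 1, -X 0 1; -X 1 0, X 0 0] := by
          show (X : Matrix (Fin 2) (Fin 2) K).adjugate = _
          exact Matrix.adjugate_fin_two _
        refine ⟨g⁻¹, inv_mem hg, Max.mulVec_inj g ?_, Max.mulVec_inj g ?_, Max.mulVec_inj g ?_⟩
        · rw [ei, Max.mulVec_inv_cancel]
          simp only [mulVec_add, mulVec_smul, e1, e2, Matrix.cons_val', Matrix.cons_val_zero,
            Matrix.cons_val_one, Matrix.of_apply]
          push_cast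
          match_scalars <;> first | ring1 | linear_combination -hd | linear_combination hd | linear_combination -(ζ * h) * hd | linear_combination (ζ * h) * hd
        · rw [ei, Max.mulVec_inv_cancel]
          simp only [mulVec_add, mulVec_smul, e1, e2, Matrix.cons_val', Matrix.cons_val_zero,
            Matrix.cons_val_one, Matrix.of_apply]
          push_cast
          match_scalars <;> first | ring1 | linear_combination -hd | linear_combination hd | linear_combination -(ζ * h) * hd | linear_combination (ζ * h) * hd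
        · rw [Max.mulVec_inv_cancel, e3] }
  have hup : ∀ a (ha : a ^ q = a), InM q M p (a * ζ) →
      Classical.GL2.uniSL (⟨a, (mem_fixK hF).2 ha⟩ : K) ∈ G := by
    intro a ha hpa
    obtain ⟨g, hg, hgx⟩ := exists_tvM hF hpp (hskew a ha) hpa
    refine ⟨g, hg, ?_, ?_, ?_⟩
    · rw [hgx, he₁, H_smul_left, hpp]; simp [Classical.GL2.coe_uniSL]
    · rw [hgx, ← hhdef, he₁]
      simp [Classical.GL2.coe_uniSL, smul_smul]
      match_scalars <;> ring
    · rw [hgx, hzp]; simp
  have hlow : Classical.GL2.lowSL (⟨b, (mem_fixK hF).2 hbq⟩ : K) ∈ G := by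
    obtain ⟨g, hg, hgx⟩ := exists_tvM hF huu hζ hu
    refine ⟨g, hg, ?_, ?_, ?_⟩
    · rw [hgx, he₁, H_smul_left, ← H_conj hF u p, ← hhdef]
      simp [Classical.GL2.coe_lowSL, hb]
      match_scalars <;> ring
    · rw [hgx, huu]; simp [Classical.GL2.coe_lowSL]
    · rw [hgx, hzu]; simp
  let A : AddSubgroup K :=
    { carrier := {x | Classical.GL2.uniSL x ∈ G}
      zero_mem' := by show _ ∈ G; rw [Classical.GL2.uniSL_zero]; exact one_mem G
      add_mem' := fun {x y} hx hy => by
        show _ ∈ G; rw [← Classical.GL2.uniSL_mul]; exact mul_mem hx hy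
      neg_mem' := fun {x} hx => by
        show _ ∈ G; rw [← Classical.GL2.uniSL_inv]; exact inv_mem hx }
  set α : K := ⟨a₁, (mem_fixK hF).2 ha₁q⟩ with hα
  have hα0 : α ≠ 0 := fun e => ha₁ (congrArg Subtype.val e)
  have hαA : α ∈ A := hup a₁ ha₁q hp₁
  have hb0 : (⟨b, (mem_fixK hF).2 hbq⟩ : K) ≠ 0 := fun e =>
    mul_ne_zero (mul_ne_zero hζ0 hζ0) (mul_ne_zero hh (pow_ne_zero _ hh)) (congrArg Subtype.val e)
  have hcardK : Fintype.card K = q := by
    obtain ⟨θ, hθ⟩ : ∃ θ : F, θ ^ q ≠ θ := by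
      by_contra hc
      push Not at hc
      exact HermStd.qHom_ne_id hF (RingHom.ext fun u => by rw [HermStd.qHom_apply, hc u, RingHom.id_apply])
    have hd : θ - θ ^ q ≠ 0 := sub_ne_zero.2 hθ.symm
    have hbij : Function.Bijective fun x : K × K => (x.1 : F) + (x.2 : F) * θ := by
      constructor
      · rintro ⟨s, t⟩ ⟨s', t'⟩ e
        simp only at e
        have e' := congrArg (fun x : F => HermStd.qHom hF x) e
        simp only [map_add, map_mul, HermStd.qHom_apply, (mem_fixK hF).1 s.2, (mem_fixK hF).1 t.2,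
          (mem_fixK hF).1 s'.2, (mem_fixK hF).1 t'.2] at e'
        have ht : (t : F) = t' := mul_right_cancel₀ hd (by linear_combination e - e')
        exact Prod.ext (Subtype.ext (by linear_combination e - θ * ht)) (Subtype.ext ht)
      · intro y
        have hts : ∀ x : F, ((x - x ^ q) / (θ - θ ^ q)) ^ q = (x - x ^ q) / (θ - θ ^ q) := fun x => by
          rw [← HermStd.qHom_apply hF, map_div₀, map_sub, map_sub, HermStd.qHom_apply, HermStd.qHom_apply,
            HermStd.qHom_apply, HermStd.qHom_apply, pow_qq hF, pow_qq hF, ← neg_sub θ, ← neg_sub x, neg_div_neg_eq]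
        refine ⟨(⟨y - (y - y ^ q) / (θ - θ ^ q) * θ, (mem_fixK hF).2 ?_⟩, ⟨_, (mem_fixK hF).2 (hts y)⟩), by simp⟩
        rw [← HermStd.qHom_apply hF, map_sub, map_mul, HermStd.qHom_apply, HermStd.qHom_apply,
          HermStd.qHom_apply, hts]
        have hcc := div_mul_cancel₀ (y - y ^ q) hd
        linear_combination hcc
    have := Fintype.card_of_bijective hbij
    rw [Fintype.card_prod, hF, pow_two] at this
    exact Nat.mul_self_inj.1 this
  set r := ringChar F
  haveI : CharP F r := ringChar.charP F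
  haveI : CharP K r := (K.subtype.charP_iff_charP r).2 inferInstance
  haveI : Fact r.Prime := ⟨CharP.char_is_prime F r⟩
  have htr : ∃ x, DicksonModular.Transitive'
      ((DicksonAction.twoPt (F := K) r).subgroup (G.map (KleinPSL.pi K))) x := by
    rcases hcase with ⟨a, ha, hpa, hind⟩ | hodd
    · refine DicksonUni.transitive r G A (fun _ h => h) (a₁ := α) (a₂ := ⟨a, (mem_fixK hF).2 ha⟩) hαA
        (hup a ha hpa) hα0 ?_ hb0 hlow
      intro hm
      obtain ⟨k, hk⟩ := AddSubgroup.mem_zmultiples_iff.1 hm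
      exact hind k (by simpa [zsmul_eq_mul, hα] using (congrArg Subtype.val hk).symm)
    · exact Dickson.transitive_one r (hodd r).1 G (fun h3 => by rw [hcardK]; exact (hodd r).2 h3)
        (hup a₁ ha₁q hp₁) hα0 hb0 hlow
  have htop := Dickson.map_pi_eq_top r G htr A (fun _ h => h) hαA hα0 hlow fun S hS hSb => by
    refine eq_top_iff.2 fun x _ => ?_
    have key : (x : F) ∈ S.map K.subtype := hgen (S.map K.subtype) (fun a ha hpa =>
      ⟨⟨a, (mem_fixK hF).2 ha⟩ / α, hS _ (hup a ha hpa), by simp [hα]⟩)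
      ⟨α * ⟨b, (mem_fixK hF).2 hbq⟩, hSb, by simp [hα, hb]⟩ _ ((mem_fixK hF).1 x.2)
    obtain ⟨y, hy, hyx⟩ := key
    exact (Subtype.ext hyx : y = x) ▸ hy
  -- every unipotent element is present
  have huni : ∀ x : K, Classical.GL2.uniSL x ∈ G := by
    intro x
    by_cases h2 : (2 : K) = 0
    · haveI : CharP K 2 := CharTwo.of_one_ne_zero_of_two_eq_zero one_ne_zero h2
      obtain ⟨Y, hY, e⟩ : KleinPSL.pi K (Classical.GL2.uniSL x) ∈ G.map (KleinPSL.pi K) := htop ▸ trivial
      rcases KleinPSL.pi_eq_iff.1 e with e | e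
      · exact e ▸ hY
      · refine (?_ : Classical.GL2.uniSL x = Y) ▸ hY
        rw [e]
        ext i j
        simp [CharTwo.neg_eq]
    · obtain ⟨Y, hY, e⟩ : KleinPSL.pi K (Classical.GL2.uniSL (x / 2)) ∈ G.map (KleinPSL.pi K) :=
        htop ▸ trivial
      have hxx : x / 2 + x / 2 = x := by field_simp; ring
      have h' : Classical.GL2.uniSL (x / 2) * Classical.GL2.uniSL (x / 2) = Classical.GL2.uniSL x := by
        rw [Classical.GL2.uniSL_mul, hxx]
      have e2 : Classical.GL2.uniSL x = Y * Y := by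
        rw [← h']
        rcases KleinPSL.pi_eq_iff.1 e with e | e
        · rw [e]
        · rw [e, neg_mul_neg]
      exact e2 ▸ mul_mem hY hY
  refine ⟨hpp, fun g c hc hgx => ?_⟩
  have hk : (c / ζ) ^ q = c / ζ := by
    rw [div_pow, eq_neg_of_add_eq_zero_right hc, hζq, neg_div_neg_eq]
  obtain ⟨g', hg', e1, e2, e3⟩ := huni ⟨c / ζ, (mem_fixK hF).2 hk⟩
  simp [Classical.GL2.coe_uniSL] at e1 e2
  refine (Max.gl_ext fun x => ?_ : g' = g) ▸ hg'
  have hζh : ζ * h ≠ 0 := mul_ne_zero hζ0 hh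
  have hp' : p = (ζ * h)⁻¹ • e₁ := by rw [he₁, inv_smul_smul₀ hζh]
  have gp : (g' : Matrix Idx Idx F) *ᵥ p = p := by
    conv_lhs => rw [hp', mulVec_smul, e1]
    exact hp'.symm
  obtain ⟨a', b', c', rfl⟩ := hbas x
  rw [hgx]
  simp only [mulVec_add, mulVec_smul, e2, e3, gp, H_add_left, H_smul_left, hpp, hzp, ← hhdef, he₁,
    smul_smul]
  match_scalars <;> field_simp <;> ring

/-- fields between the rational fixed field and the fixed field -/
theorem field_gen (D : Data F q n) (S : Subfield F) (hS : ∀ x ∈ D.F₀, x ^ q = x → x ∈ S) {b : F}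
    (hb : b ^ q = b) (hbS : b ∈ S) (hb0 : b ∉ D.F₀) : ∀ x, x ^ q = x → x ∈ S := by
  obtain ⟨θ, hθ, hne⟩ := exists_theta D
  have hd : θ - θ ^ q ≠ 0 := sub_ne_zero.2 hne.symm
  have hdq : (θ - θ ^ q) ^ q = -(θ - θ ^ q) := by
    rw [← HermStd.qHom_apply hF, ← HermStd.qHom_apply hF θ, map_sub, HermStd.qHom_qHom, neg_sub]
  have hfix : ∀ {s : F}, s ∈ S ⊓ fixK hF → s ^ q = s := fun h => (mem_fixK hF).1 (Subfield.mem_inf.1 h).2
  have hθs : θ + θ ^ q ∈ S ⊓ fixK hF ∧ θ * θ ^ q ∈ S ⊓ fixK hF := by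
    have h1 : (θ + θ ^ q) ^ q = θ + θ ^ q := by
      rw [← HermStd.qHom_apply hF, ← HermStd.qHom_apply hF θ, map_add, HermStd.qHom_qHom, add_comm]
    have h2 : (θ * θ ^ q) ^ q = θ * θ ^ q := by rw [mul_pow, pow_qq hF, mul_comm]
    exact ⟨Subfield.mem_inf.2 ⟨hS _ (add_mem hθ (pow_mem hθ q)) h1, (mem_fixK hF).2 h1⟩,
      Subfield.mem_inf.2 ⟨hS _ (mul_mem hθ (pow_mem hθ q)) h2, (mem_fixK hF).2 h2⟩⟩
  let T : Subalgebra D.F₀ F :=
    { carrier := {y | ∃ s ∈ S ⊓ fixK hF, ∃ t ∈ S ⊓ fixK hF, y = s + t * θ}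
      mul_mem' := by
        rintro _ _ ⟨s, hs, t, ht, rfl⟩ ⟨s', hs', t', ht', rfl⟩
        refine ⟨s * s' - t * t' * (θ * θ ^ q), sub_mem (mul_mem hs hs') (mul_mem (mul_mem ht ht') hθs.2),
          s * t' + t * s' + t * t' * (θ + θ ^ q),
          add_mem (add_mem (mul_mem hs ht') (mul_mem ht hs')) (mul_mem (mul_mem ht ht') hθs.1), by ring⟩
      add_mem' := by
        rintro _ _ ⟨s, hs, t, ht, rfl⟩ ⟨s', hs', t', ht', rfl⟩
        exact ⟨s + s', add_mem hs hs', t + t', add_mem ht ht', by ring⟩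
      algebraMap_mem' := fun x => by
        set t := ((x : F) - (x : F) ^ q) / (θ - θ ^ q) with ht
        have htq : t ^ q = t := by
          rw [ht, div_pow, hdq, ← HermStd.qHom_apply hF, ← HermStd.qHom_apply hF (x : F), map_sub,
            HermStd.qHom_qHom, ← neg_sub (x : F), HermStd.qHom_apply, neg_div_neg_eq]
        have htm : t ∈ D.F₀ := D.F₀.div_mem (sub_mem x.2 (pow_mem x.2 q)) (sub_mem hθ (pow_mem hθ q))
        have hsq : ((x : F) - t * θ) ^ q = (x : F) - t * θ := by
          rw [← HermStd.qHom_apply hF, map_sub, map_mul, HermStd.qHom_apply, HermStd.qHom_apply,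
            HermStd.qHom_apply, htq]
          have hcc : t * (θ - θ ^ q) = (x : F) - (x : F) ^ q := by rw [ht, div_mul_cancel₀ _ hd]
          linear_combination hcc
        refine ⟨(x : F) - t * θ, Subfield.mem_inf.2 ⟨hS _ (sub_mem x.2 (mul_mem htm hθ)) hsq, (mem_fixK hF).2 hsq⟩,
          t, Subfield.mem_inf.2 ⟨hS _ htm htq, (mem_fixK hF).2 htq⟩, ?_⟩
        show (x : F) = _
        ring }
  haveI : Fintype D.F₀ := Fintype.ofFinite D.F₀
  have hpr : (Module.finrank D.F₀ F).Prime := by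
    have := Module.card_eq_pow_finrank (K := D.F₀) (V := F)
    rw [D.hcard, Nat.card_eq_fintype_card] at this
    rw [← Nat.pow_right_injective Fintype.one_lt_card this]; exact D.hr
  haveI := Subalgebra.isSimpleOrder_of_finrank_prime D.F₀ F hpr
  have htop : T = ⊤ := (IsSimpleOrder.eq_bot_or_eq_top T).resolve_left fun h => hb0 (by
    have hm : b ∈ T := ⟨b, Subfield.mem_inf.2 ⟨hbS, (mem_fixK hF).2 hb⟩, 0, zero_mem _, by ring⟩
    rw [h, Algebra.mem_bot] at hm
    obtain ⟨c, rfl⟩ := hm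
    exact c.2)
  intro x hx
  obtain ⟨s, hs, t, ht, e⟩ : x ∈ T := htop ▸ Algebra.mem_top
  have e' := congrArg (fun y : F => HermStd.qHom hF y) e
  simp only [map_add, map_mul, HermStd.qHom_apply, hx, hfix hs, hfix ht] at e'
  have ht0 : t = 0 := (mul_eq_zero.1 (show t * (θ - θ ^ q) = 0 by linear_combination e' - e)).resolve_right hd
  rw [e, ht0, zero_mul, add_zero]
  exact (Subfield.mem_inf.1 hs).1

end Cfsg.Agent.Forms.Max.SU3.Subfield
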