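import Mathlib
import Cfsg.Agent.Lib.Forms.Max.SU3.Subfield.Plane

/-!
# Rational hyperbolic bases, and a test for rational isotropic vectors
-/

set_option autoImplicit false
set_option linter.unusedSectionVars false

namespace Cfsg.Agent.Forms.Max.SU3.Subfield

open Matrix Cfsg.Agent.Classical.Unitary

variable {F : Type*} [Field F] [Fintype F] {q n : ℕ}

local notation "Idx" => (Fin n)
local notation "Vec" => (Fin n → F)
local notation "H" => Cfsg.hermForm n F q

/-- a rational hyperbolic pair and its pole -/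
structure Hyp (D : Data F q n) (e f w : Fin n → D.F₀) : Prop where
  ee : Cfsg.hermForm n F q (rv D e) (rv D e) = 0
  ff : Cfsg.hermForm n F q (rv D f) (rv D f) = 0
  ef : Cfsg.hermForm n F q (rv D e) (rv D f) = 1
  fe : Cfsg.hermForm n F q (rv D f) (rv D e) = 1
  we : Cfsg.hermForm n F q (rv D w) (rv D e) = 0
  wf : Cfsg.hermForm n F q (rv D w) (rv D f) = 0
  ew : Cfsg.hermForm n F q (rv D e) (rv D w) = 0
  fw : Cfsg.hermForm n F q (rv D f) (rv D w) = 0
  ww : Cfsg.hermForm n F q (rv D w) (rv D w) ≠ 0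
  dec : ∀ v : Fin n → F, v = Cfsg.hermForm n F q v (rv D f) • rv D e +
    Cfsg.hermForm n F q v (rv D e) • rv D f +
    (Cfsg.hermForm n F q v (rv D w) / Cfsg.hermForm n F q (rv D w) (rv D w)) • rv D w

variable (D : Data F q n)

theorem exists_hyp : ∃ e f w, Hyp D e f w := by
  have hF := D.hF
  obtain ⟨e, -, he0, hee⟩ := exists_iso_in D (S := ⊤) (by
    rw [finrank_top, Module.finrank_fintype_fun_eq_card, Fintype.card_fin]; have := D.hn; omega)
  obtain ⟨f, hff, hfe, hef⟩ := exists_partner D he0 hee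
  let L : (Idx → D.F₀) →ₗ[D.F₀] (Fin 2 → D.F₀) := LinearMap.pi ![form0 D e, form0 D f]
  obtain ⟨w, hw, hw0⟩ := Submodule.exists_mem_ne_zero_of_ne_bot (p := LinearMap.ker L) (fun h => by
    have h1 := finrank_ker D L
    rw [h, finrank_bot] at h1
    have := D.hn
    omega)
  have hwe : H (rv D w) (rv D e) = 0 := by
    rw [← form0_coe, show form0 D e w = 0 from congrFun (LinearMap.mem_ker.1 hw) 0]; rfl
  have hwf : H (rv D w) (rv D f) = 0 := by
    rw [← form0_coe, show form0 D f w = 0 from congrFun (LinearMap.mem_ker.1 hw) 1]; rfl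
  have hre0 : rv D e ≠ 0 := fun h => he0 (rv_eq_zero D h)
  have hew := (H_eq_zero_comm hF).1 hwe
  have hfw := (H_eq_zero_comm hF).1 hwf
  have hww : H (rv D w) (rv D w) ≠ 0 := fun h => by
    obtain ⟨l, hl⟩ := iso_dep hF D.hn hre0 hee h hew
    have := hwf
    rw [hl, H_smul_left, hef, mul_one] at this
    exact hw0 (rv_eq_zero D (by rw [hl, this, zero_smul]))
  obtain ⟨z, -, hze, hzf, hbas⟩ := exists_pole hF D.hn hee hff (by rw [hfe]; exact one_ne_zero)
  obtain ⟨c, hwz⟩ : ∃ c : F, rv D w = c • z := by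
    obtain ⟨a, b, c, h⟩ := hbas (rv D w)
    have e1 := hwe
    have e2 := hwf
    rw [h] at e1 e2
    simp only [H_add_left, H_smul_left, hee, hff, hef, hfe, hze, hzf, mul_zero, mul_one, add_zero,
      zero_add] at e1 e2
    exact ⟨c, by rw [h, e1, e2, zero_smul, zero_smul, zero_add, zero_add]⟩
  refine ⟨e, f, w, ⟨hee, hff, hef, hfe, hwe, hwf, hew, hfw, hww, fun v => sub_eq_zero.1 ?_⟩⟩
  set d := v - (H v (rv D f) • rv D e + H v (rv D e) • rv D f +
    (H v (rv D w) / H (rv D w) (rv D w)) • rv D w) with hd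
  have d1 : H d (rv D e) = 0 := by
    simp [hd, H_sub_left, H_add_left, H_smul_left, hee, hfe, hwe]
  have d2 : H d (rv D f) = 0 := by
    simp [hd, H_sub_left, H_add_left, H_smul_left, hff, hef, hwf]
  have d3 : H d (rv D w) = 0 := by
    simp [hd, H_sub_left, H_add_left, H_smul_left, hew, hfw, hww]
  refine eq_zero_of_H hF fun y => ?_
  obtain ⟨a, b, c', rfl⟩ := hbas y
  have hc : c ≠ 0 := fun h => hww (by rw [hwz, h, zero_smul, H_zero_left])
  rw [hwz, H_smul_right] at d3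
  have d3' := (mul_eq_zero.1 d3).resolve_left (pow_ne_zero _ hc)
  simp [H_add_right hF, H_smul_right, d1, d2, d3']

variable {D}

theorem Hyp.swap {e f w : Idx → D.F₀} (B : Hyp D e f w) : Hyp D f e w :=
  ⟨B.ff, B.ee, B.fe, B.ef, B.wf, B.we, B.fw, B.ew, B.ww, fun v => by
    conv_lhs => rw [B.dec v]
    abel⟩

/-- for a given coefficient at `w` some isotropic combination exists -/
theorem Hyp.exists_coeff {e f w : Idx → D.F₀} (B : Hyp D e f w) {γ : F} (hγ : γ ∈ D.F₀) :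
    ∃ α ∈ D.F₀, α + α ^ q + γ * γ ^ q * H (rv D w) (rv D w) = 0 := by
  have hd : (γ * γ ^ q * H (rv D w) (rv D w)) ^ q = γ * γ ^ q * H (rv D w) (rv D w) := by
    rw [mul_pow, mul_pow, pow_qq D.hF, H_conj D.hF]; ring
  obtain ⟨α, hα, e0⟩ := trace_rat D (neg_mem (mul_mem (mul_mem hγ (pow_mem_F₀ D hγ)) (H_rat D w w)))
    (by rw [← HermStd.qHom_apply D.hF, map_neg, HermStd.qHom_apply, hd])
  exact ⟨α, hα, by rw [e0]; ring⟩

theorem Hyp.comb_iso {e f w : Idx → D.F₀} (B : Hyp D e f w) (α γ : D.F₀)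
    (h : (α : F) + (α : F) ^ q + (γ : F) * (γ : F) ^ q * H (rv D w) (rv D w) = 0) :
    H (rv D (α • e + f + γ • w)) (rv D (α • e + f + γ • w)) = 0 := by
  simp only [rv_add, rv_smul, H_add_left, H_add_right D.hF, H_smul_left, H_smul_right, B.ee, B.ff,
    B.ef, B.fe, B.we, B.wf, B.ew, B.fw]
  linear_combination h

/-- the cross product of the coordinates at an isotropic vector and at the pole is rational -/
theorem cross_rational {e f w : Idx → D.F₀} (B : Hyp D e f w) {u : Vec}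
    (hN : ∀ x, H (rv D x) (rv D x) = 0 → H (rv D x) u * H (rv D x) u ^ q ∈ D.F₀) :
    H (rv D e) u * H (rv D w) u ^ q ∈ D.F₀ := by
  have hF := D.hF
  have σs : ∀ x : F, HermStd.qHom hF x = x ^ q := fun x => HermStd.qHom_apply hF x
  obtain ⟨θ, hθ, hne⟩ := exists_theta D
  obtain ⟨ζ, hζ, hζ0, hζs⟩ := exists_skew D
  have hζq : ζ ^ q = -ζ := eq_neg_of_add_eq_zero_right hζs
  set A := H (rv D e) u with hAdef
  set Bv := H (rv D f) u with hBdef
  set C := H (rv D w) u with hCdef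
  set nw := H (rv D w) (rv D w) with hnw
  have hnw' : nw ∈ D.F₀ := H_rat D w w
  set P := A * Bv ^ q with hP
  set X := A * C ^ q with hX
  set Y := Bv * C ^ q with hY
  have hNA : A * A ^ q ∈ D.F₀ := hN e B.ee
  have hNB : Bv * Bv ^ q ∈ D.F₀ := hN f B.ff
  have hR : ∀ α γ : F, α ∈ D.F₀ → γ ∈ D.F₀ → α + α ^ q + γ * γ ^ q * nw = 0 →
      α * P + α ^ q * P ^ q + γ * γ ^ q * (C * C ^ q) + α * γ ^ q * X + α ^ q * γ * X ^ q +
        γ ^ q * Y + γ * Y ^ q ∈ D.F₀ := by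
    intro α γ hα hγ h
    have h1 := hN _ (B.comb_iso ⟨α, hα⟩ ⟨γ, hγ⟩ h)
    simp only [rv_add, rv_smul, H_add_left, H_smul_left, ← hAdef, ← hBdef, ← hCdef] at h1
    have h2 := sub_mem (sub_mem h1 (mul_mem (mul_mem hα (pow_mem_F₀ D hα)) hNA)) hNB
    convert h2 using 1
    rw [← σs (α * A + Bv + γ * C), map_add, map_add, map_mul, map_mul, σs, σs, σs, σs, σs, hP, hX, hY,
      mul_pow, mul_pow, mul_pow, pow_qq hF, pow_qq hF]
    ring
  have hPP : P - P ^ q ∈ D.F₀ := by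
    have h1 := hR ζ 0 hζ (zero_mem _) (by rw [hζs]; ring)
    rw [zero_pow (q_ne_zero hF), hζq] at h1
    rw [show P - P ^ q = ζ⁻¹ * (ζ * P + -ζ * P ^ q) by field_simp; ring]
    refine mul_mem (inv_mem hζ) ?_
    convert h1 using 1
    ring
  have hL : ∀ γ : F, γ ∈ D.F₀ → γ ^ q * X - γ * X ^ q ∈ D.F₀ := by
    intro γ hγ
    obtain ⟨α, hα, h⟩ := B.exists_coeff hγ
    have hs : (α + ζ) ^ q = α ^ q - ζ := by rw [← σs, map_add, σs, σs, hζq]; ring
    have h1 := sub_mem (hR (α + ζ) γ (add_mem hα hζ) hγ (by rw [hs]; linear_combination h))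
      (hR α γ hα hγ h)
    rw [show γ ^ q * X - γ * X ^ q = ((α + ζ) * P + (α + ζ) ^ q * P ^ q + γ * γ ^ q * (C * C ^ q) +
      (α + ζ) * γ ^ q * X + (α + ζ) ^ q * γ * X ^ q + γ ^ q * Y + γ * Y ^ q -
      (α * P + α ^ q * P ^ q + γ * γ ^ q * (C * C ^ q) + α * γ ^ q * X + α ^ q * γ * X ^ q +
        γ ^ q * Y + γ * Y ^ q)) / ζ - (P - P ^ q) by rw [hs]; field_simp; ring]
    exact sub_mem (D.F₀.div_mem h1 hζ) hPP
  have hXm : X ∈ D.F₀ := by
    have h1 := hL 1 (one_mem _)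
    rw [one_pow, one_mul, one_mul] at h1
    rw [show X = ((θ ^ q * X - θ * X ^ q) - θ * (X - X ^ q)) / (θ ^ q - θ) by
      rw [eq_div_iff (sub_ne_zero.2 hne)]; ring]
    exact D.F₀.div_mem (sub_mem (hL θ hθ) (mul_mem hθ h1)) (sub_mem (pow_mem_F₀ D hθ) hθ)
  exact hXm

/-- a vector all whose products with rational isotropic vectors have rational norm is rational -/
theorem rational_of_norms {e f w : Idx → D.F₀} (B : Hyp D e f w) {u : Vec}
    (hN : ∀ x, H (rv D x) (rv D x) = 0 → H (rv D x) u * H (rv D x) u ^ q ∈ D.F₀)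
    (hA : H (rv D e) u ≠ 0) : ∃ (k : F) (x : Idx → D.F₀), u = k • rv D x := by
  have hF := D.hF
  have σs : ∀ x : F, HermStd.qHom hF x = x ^ q := fun x => HermStd.qHom_apply hF x
  obtain ⟨θ, hθ, hne⟩ := exists_theta D
  obtain ⟨ζ, hζ, hζ0, hζs⟩ := exists_skew D
  have hζq : ζ ^ q = -ζ := eq_neg_of_add_eq_zero_right hζs
  set A := H (rv D e) u with hAdef
  set Bv := H (rv D f) u with hBdef
  set C := H (rv D w) u with hCdef
  set nw := H (rv D w) (rv D w) with hnw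
  have hnw' : nw ∈ D.F₀ := H_rat D w w
  set P := A * Bv ^ q with hP
  set X := A * C ^ q with hX
  set Y := Bv * C ^ q with hY
  have hNA : A * A ^ q ∈ D.F₀ := hN e B.ee
  have hNB : Bv * Bv ^ q ∈ D.F₀ := hN f B.ff
  have hR : ∀ α γ : F, α ∈ D.F₀ → γ ∈ D.F₀ → α + α ^ q + γ * γ ^ q * nw = 0 →
      α * P + α ^ q * P ^ q + γ * γ ^ q * (C * C ^ q) + α * γ ^ q * X + α ^ q * γ * X ^ q +
        γ ^ q * Y + γ * Y ^ q ∈ D.F₀ := by
    intro α γ hα hγ h
    have h1 := hN _ (B.comb_iso ⟨α, hα⟩ ⟨γ, hγ⟩ h)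
    simp only [rv_add, rv_smul, H_add_left, H_smul_left, ← hAdef, ← hBdef, ← hCdef] at h1
    have h2 := sub_mem (sub_mem h1 (mul_mem (mul_mem hα (pow_mem_F₀ D hα)) hNA)) hNB
    convert h2 using 1
    rw [← σs (α * A + Bv + γ * C), map_add, map_add, map_mul, map_mul, σs, σs, σs, σs, σs, hP, hX, hY,
      mul_pow, mul_pow, mul_pow, pow_qq hF, pow_qq hF]
    ring
  have hXm : X ∈ D.F₀ := cross_rational B hN
  have hYm : Y ∈ D.F₀ := cross_rational B.swap hN
  have hPP : P - P ^ q ∈ D.F₀ := by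
    have h1 := hR ζ 0 hζ (zero_mem _) (by rw [hζs]; ring)
    rw [zero_pow (q_ne_zero hF), hζq] at h1
    rw [show P - P ^ q = ζ⁻¹ * (ζ * P + -ζ * P ^ q) by field_simp; ring]
    refine mul_mem (inv_mem hζ) ?_
    convert h1 using 1
    ring
  have hCA : C / A ∈ D.F₀ := by
    rw [show C / A = X ^ q / (A * A ^ q) by
      rw [hX, mul_pow, pow_qq hF]; field_simp]
    exact D.F₀.div_mem (pow_mem_F₀ D hXm) hNA
  have hNC : C * C ^ q ∈ D.F₀ := by
    rw [show C * C ^ q = (C / A) * (C / A) ^ q * (A * A ^ q) by rw [div_pow]; field_simp]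
    exact mul_mem (mul_mem hCA (pow_mem_F₀ D hCA)) hNA
  have hPq : P ^ q = A ^ q * Bv := by rw [hP, mul_pow, pow_qq hF]
  have hP' : nw * P ^ q ∈ D.F₀ := by
    obtain ⟨α, hα, h⟩ := B.exists_coeff (one_mem D.F₀)
    have h1 := hR α 1 hα (one_mem _) h
    have h2 := sub_mem (add_mem (add_mem (add_mem (add_mem (add_mem (mul_mem hα hPP) hNC) (mul_mem hα hXm))
      (mul_mem (pow_mem_F₀ D hα) (pow_mem_F₀ D hXm))) hYm) (pow_mem_F₀ D hYm)) h1
    convert h2 using 1
    rw [one_pow] at h ⊢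
    linear_combination (P ^ q) * h
  have hBA : Bv / A ∈ D.F₀ := by
    have h4 : P ^ q ∈ D.F₀ := by
      rw [show P ^ q = nw * P ^ q / nw by rw [mul_div_cancel_left₀]; exact B.ww]
      exact D.F₀.div_mem hP' hnw'
    rw [show Bv / A = P ^ q / (A * A ^ q) by rw [hPq]; field_simp]
    exact D.F₀.div_mem h4 hNA
  refine ⟨A ^ q, (⟨_, pow_mem_F₀ D hBA⟩ : D.F₀) • e + f +
    (⟨_, D.F₀.div_mem (pow_mem_F₀ D hCA) hnw'⟩ : D.F₀) • w, ?_⟩
  conv_lhs => rw [B.dec u]
  rw [← H_conj hF (rv D f) u, ← H_conj hF (rv D e) u, ← H_conj hF (rv D w) u, ← hAdef, ← hBdef, ← hCdef,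
    rv_add, rv_add, rv_smul, rv_smul]
  simp only [div_pow]
  rw [← hnw]
  match_scalars <;> field_simp

/-- some rational isotropic vector sees an irrational centre with irrational norm -/
theorem exists_irrational_norm {u : Vec} (huu : H u u = 0) (hirr : ∀ (k : F) x, u ≠ k • rv D x) :
    ∃ v, H (rv D v) (rv D v) = 0 ∧ H u (rv D v) * H u (rv D v) ^ q ∉ D.F₀ := by
  have hF := D.hF
  by_contra hc
  push Not at hc
  have hN : ∀ x, H (rv D x) (rv D x) = 0 → H (rv D x) u * H (rv D x) u ^ q ∈ D.F₀ := fun x hx => by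
    have := hc x hx
    rwa [← H_conj hF (rv D x) u, pow_qq hF, mul_comm] at this
  obtain ⟨e, f, w, B⟩ := exists_hyp D
  by_cases hA : H (rv D e) u = 0
  swap
  · obtain ⟨k, x, h⟩ := rational_of_norms B hN hA
    exact hirr k x h
  by_cases hB : H (rv D f) u = 0
  swap
  · obtain ⟨k, x, h⟩ := rational_of_norms B.swap hN hB
    exact hirr k x h
  have hd := B.dec u
  rw [(H_eq_zero_comm hF).1 hA, (H_eq_zero_comm hF).1 hB, zero_smul, zero_smul, zero_add, zero_add] at hd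
  rw [hd, H_smul_left, H_smul_right] at huu
  rcases mul_eq_zero.1 huu with h | h
  · exact hirr 0 0 (by rw [zero_smul, hd, h, zero_smul])
  · rcases mul_eq_zero.1 h with h | h
    · exact hirr 0 0 (by rw [zero_smul, hd, eq_zero_of_pow_eq_zero h, zero_smul])
    · exact B.ww h

end Cfsg.Agent.Forms.Max.SU3.Subfield
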