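import Mathlib
import Cfsg.Agent.Lib.Forms.Max.SU3.Subfield.Frame
import Cfsg.Agent.Lib.Forms.Max.SL3.Singer.Odd
import Cfsg.Agent.S0205
import Cfsg.Agent.S0215

/-!
# The rational field with four elements: an irrational centre forces two transvections at one centre

Otherwise no two involutions commute, products of two involutions lie in an odd normal subgroup, and no normal
subgroup of odd order can contain one with irrational norm: an abelian one fixes a rational orthogonal frame, and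
a nilpotent one of class two is inverted modulo scalars by every involution.
-/

set_option autoImplicit false
set_option linter.unusedSectionVars false

namespace Cfsg.Agent.Forms.Max.SU3.Subfield.Two

open Matrix Cfsg.Agent.Classical.Unitary Cfsg.Agent.Forms.Max.SU3.Subfield

variable {F : Type*} [Field F] [Fintype F] {q n : ℕ}

local notation "Idx" => (Fin n)
local notation "Vec" => (Fin n → F)
local notation "GLn" => GL (Fin n) F
local notation "Mat" => Matrix (Fin n) (Fin n) F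
local notation "H" => Cfsg.hermForm n F q
local notation "SUn" => (Cfsg.GU n F q ⊓ Cfsg.Geo.specialLinear (Fin n) F)

/-- the standing hypotheses -/
structure Hypo (D : Data F q n) (M : Subgroup (GL (Fin n) F)) : Prop where
  le : M ≤ Cfsg.GU n F q ⊓ Cfsg.Geo.specialLinear (Fin n) F
  low : ∀ g ∈ Cfsg.GU n F q ⊓ Cfsg.Geo.specialLinear (Fin n) F, (∃ k : F, k ≠ 0 ∧ ∀ a : Fin n → D.F₀,
    ∃ b : Fin n → D.F₀, k • ((g : Matrix (Fin n) (Fin n) F) *ᵥ rv D a) = rv D b) → g ∈ M
  small : ∀ x ∈ D.F₀, x ^ q = x → x = 0 ∨ x = 1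
  rat : RatRoots D M
  one : ∀ (p : Fin n → F) (c c' : F), p ≠ 0 → Cfsg.hermForm n F q p p = 0 → c + c ^ q = 0 → c' + c' ^ q = 0 →
    c ≠ 0 → c' ≠ 0 → InM q M p c → InM q M p c' → c = c'

/-- only scalars commute with two matrices whose commutator is a scalar of order three -/
theorem schur (hn : n = 3) {a b : Mat} {ω : F} (hω3 : ω ^ 3 = 1) (hω1 : ω ≠ 1) (hab : a * b = ω • (b * a))
    (ha : a.det ≠ 0) (hb : b.det ≠ 0) {C : Mat} (hCa : C * a = a * C) (hCb : C * b = b * C) :
    ∃ c : F, C = c • 1 := by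
  subst hn
  by_cases h : SL3.Singer.Odd.NoEig C
  · have e := h.comm hCa.symm hCb.symm
    have h1 : (ω - 1) • (b * a) = 0 := by rw [sub_smul, one_smul, ← hab, e, sub_self]
    rcases smul_eq_zero.1 h1 with h2 | h2
    · exact absurd (sub_eq_zero.1 h2) hω1
    · exact absurd (congrArg det h2) (by rw [det_mul, det_zero]; exact mul_ne_zero hb ha)
  simp only [SL3.Singer.Odd.NoEig, not_forall, not_not] at h
  obtain ⟨v, hv0, c, hvc⟩ := h
  refine ⟨c, ?_⟩
  let W : Submodule F (Fin 3 → F) := LinearMap.ker (toLin' C - c • LinearMap.id)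
  have hmem : ∀ x, x ∈ W ↔ C *ᵥ x = c • x := fun x => by
    simp [W, LinearMap.mem_ker, sub_eq_zero, toLin'_apply]
  have hmap : ∀ m : Matrix (Fin 3) (Fin 3) F, C * m = m * C → ∀ x ∈ W, toLin' m x ∈ W := fun m hm x hx => by
    rw [hmem, toLin'_apply, mulVec_mulVec, hm, ← mulVec_mulVec, (hmem x).1 hx, mulVec_smul]
  have hd : ω ^ Module.finrank F W = 1 := by
    have hinj : ∀ (m : Matrix (Fin 3) (Fin 3) F) (hm : C * m = m * C), m.det ≠ 0 →
        LinearMap.det ((toLin' m).restrict (hmap m hm)) ≠ 0 := by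
      intro m hm hdet h0
      obtain ⟨x, hx0, hx⟩ := Submodule.exists_mem_ne_zero_of_ne_bot (LinearMap.bot_lt_ker_of_det_eq_zero h0).ne'
      refine hdet (Matrix.exists_mulVec_eq_zero_iff.1 ⟨x, fun e => hx (Subtype.ext e), ?_⟩)
      simpa [toLin'_apply] using congrArg Subtype.val hx0
    have e : (toLin' a).restrict (hmap a hCa) ∘ₗ (toLin' b).restrict (hmap b hCb) =
        ω • ((toLin' b).restrict (hmap b hCb) ∘ₗ (toLin' a).restrict (hmap a hCa)) :=
      LinearMap.ext fun x => Subtype.ext (by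
        simp only [LinearMap.comp_apply, LinearMap.smul_apply, Submodule.coe_smul, LinearMap.restrict_coe_apply,
          toLin'_apply, mulVec_mulVec, hab, smul_mulVec])
    have e' := congrArg LinearMap.det e
    rw [LinearMap.det_comp, LinearMap.det_smul, LinearMap.det_comp,
      mul_comm (LinearMap.det ((toLin' b).restrict (hmap b hCb)))] at e'
    exact (mul_eq_right₀ (mul_ne_zero (hinj a hCa ha) (hinj b hCb hb))).1 e'.symm
  have hle : Module.finrank F W ≤ 3 := (Submodule.finrank_le W).trans (by simp)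
  have hpos : 0 < Module.finrank F W := Submodule.one_le_finrank_iff.2 fun h0 => hv0 (by
    have hvW : v ∈ W := (hmem v).2 hvc
    rwa [h0, Submodule.mem_bot] at hvW)
  have hW : W = ⊤ := by
    apply Submodule.eq_top_of_finrank_eq
    rw [Module.finrank_fintype_fun_eq_card, Fintype.card_fin]
    rcases Nat.lt_or_ge (Module.finrank F W) 3 with h3 | h3
    · exfalso
      interval_cases hk : Module.finrank F W
      · exact hω1 (by simpa using hd)
      · exact hω1 (by rw [← hω3, pow_succ, hd, one_mul])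
    · omega
  refine Matrix.ext_of_mulVec_single fun i => ?_
  rw [Matrix.smul_mulVec, Matrix.one_mulVec]
  exact (hmem _).1 (hW ▸ Submodule.mem_top)

variable {D : Data F q n} {M : Subgroup (GL (Fin n) F)} (hyp : Hypo D M)
include hyp

theorem two_zero : (2 : F) = 0 := by
  rcases hyp.small 2 (ofNat_mem D.F₀ 2) (by rw [← HermStd.qHom_apply D.hF, map_ofNat]) with h | h
  · exact h
  · exact absurd (by linear_combination h : (1 : F) = 0) one_ne_zero

theorem one_skew : (1 : F) + 1 ^ q = 0 := by rw [one_pow]; linear_combination two_zero hyp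

theorem neg_eq (x : F) : -x = x := by linear_combination -x * two_zero hyp

theorem exists_omega : ∃ θ ∈ D.F₀, θ ^ q ≠ θ ∧ θ + θ ^ q = 1 ∧ θ * θ ^ q = 1 ∧ θ ≠ 1 := by
  obtain ⟨θ, hθ, hne⟩ := exists_theta D
  have h1 : (θ + θ ^ q) ^ q = θ + θ ^ q := by
    rw [← HermStd.qHom_apply D.hF, ← HermStd.qHom_apply D.hF θ, map_add, HermStd.qHom_qHom, add_comm]
  have h2 : (θ * θ ^ q) ^ q = θ * θ ^ q := by rw [mul_pow, pow_qq D.hF, mul_comm]
  have hθ0 : θ ≠ 0 := fun h => hne (by rw [h, zero_pow (q_ne_zero D.hF)])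
  refine ⟨θ, hθ, hne, ?_, ?_, fun h => hne (by rw [h, one_pow])⟩
  · refine (hyp.small _ (add_mem hθ (pow_mem_F₀ D hθ)) h1).resolve_left fun h => hne ?_
    rw [eq_neg_of_add_eq_zero_right h, neg_eq hyp]
  · exact (hyp.small _ (mul_mem hθ (pow_mem_F₀ D hθ)) h2).resolve_left
      (mul_ne_zero hθ0 (pow_ne_zero _ hθ0))

/-- the transvection of a rational isotropic vector -/
theorem exists_rat_tv {a : Idx → D.F₀} (ha : H (rv D a) (rv D a) = 0) :
    ∃ s ∈ M, ∀ x, (s : Mat) *ᵥ x = x + H x (rv D a) • rv D a := by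
  obtain ⟨s, hs, hsx⟩ := exists_tvM D.hF ha (one_skew hyp) (hyp.rat a 1 ha (one_mem _) (one_skew hyp))
  exact ⟨s, hs, fun x => by rw [hsx, one_mul]⟩

/-- a non-zero vector is not orthogonal to every rational isotropic one -/
theorem exists_iso_off {z : Vec} (hz : z ≠ 0) :
    ∃ a, H (rv D a) (rv D a) = 0 ∧ H z (rv D a) ≠ 0 := by
  obtain ⟨e, f, w, B⟩ := exists_hyp D
  by_contra hc
  push Not at hc
  obtain ⟨α, hα, hαe⟩ := B.exists_coeff (one_mem D.F₀)
  have h1 := hc _ (B.comb_iso ⟨α, hα⟩ 1 hαe)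
  simp only [rv_add, rv_smul, H_add_right D.hF, H_smul_right, hc e B.ee, hc f B.ff, OneMemClass.coe_one,
    one_pow, one_mul, mul_zero, zero_add] at h1
  exact hz (by rw [B.dec z, hc e B.ee, hc f B.ff, h1, zero_div, zero_smul, zero_smul, zero_smul, zero_add, zero_add])

/-- involutions are transvections -/
theorem invol {g : GLn} (hg : g ∈ M) (h2 : g * g = 1) (h1 : g ≠ 1) : ∃ (p : Vec) (c : F), p ≠ 0 ∧ H p p = 0 ∧
    c ≠ 0 ∧ c + c ^ q = 0 ∧ ∀ x, (g : Mat) *ᵥ x = x + (c * H x p) • p := by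
  have hgg : ∀ x, (g : Mat) *ᵥ ((g : Mat) *ᵥ x) = x := fun x => by
    rw [← Max.mulVec_mul_GL, h2]; simp
  let L : Vec →ₗ[F] Vec := Matrix.toLin' (g : Mat) - LinearMap.id
  have hL : ∀ x, L x = (g : Mat) *ᵥ x - x := fun x => by simp [L, Matrix.toLin'_apply]
  have hdbl : ∀ y : Vec, y + y = 0 := fun y => by rw [← two_smul F, two_zero hyp, zero_smul]
  have hle : LinearMap.range L ≤ LinearMap.ker L := by
    rintro _ ⟨x, rfl⟩
    rw [LinearMap.mem_ker, hL, hL, mulVec_sub, hgg]
    rw [show x - (g : Mat) *ᵥ x - ((g : Mat) *ᵥ x - x) = (x + x) - ((g : Mat) *ᵥ x + (g : Mat) *ᵥ x) by abel,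
      hdbl, hdbl, sub_zero]
  have hne : LinearMap.range L ≠ ⊥ := fun h => h1 (Max.gl_ext fun x => by
    have : L x ∈ LinearMap.range L := ⟨x, rfl⟩
    rw [h, Submodule.mem_bot, hL, sub_eq_zero] at this
    simpa using this)
  have hsum := LinearMap.finrank_range_add_finrank_ker L
  rw [Module.finrank_fintype_fun_eq_card, Fintype.card_fin] at hsum
  have hmono := Submodule.finrank_mono hle
  have h1le := Submodule.one_le_finrank_iff.2 hne
  have := D.hn
  obtain ⟨⟨p, hp⟩, hp0, hpspan⟩ := finrank_eq_one_iff'.1 (show Module.finrank F (LinearMap.range L) = 1 by omega)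
  have hp0' : p ≠ 0 := fun h => hp0 (Subtype.ext h)
  have hgp : (g : Mat) *ᵥ p = p := sub_eq_zero.1 (by rw [← hL]; exact hle hp)
  have hφ : ∀ x, ∃ t : F, (g : Mat) *ᵥ x = x + t • p := fun x => by
    obtain ⟨t, ht⟩ := hpspan ⟨L x, x, rfl⟩
    exact ⟨t, by rw [show t • p = L x from congrArg Subtype.val ht, hL]; abel⟩
  choose φ hφ using hφ
  obtain ⟨y₁, hy₁⟩ := hp
  have hy : φ y₁ = 1 := by
    rw [hL, hφ, add_sub_cancel_left] at hy₁
    exact smul_left_injective F hp0' (by simpa using hy₁)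
  have hiso : ∀ x y, H ((g : Mat) *ᵥ x) ((g : Mat) *ᵥ y) = H x y := Unitary.SUn_H (hyp.le hg)
  have hpp : H p p = 0 := by
    have := hiso y₁ p
    rwa [hgp, hφ, hy, one_smul, H_add_left, add_eq_left] at this
  have key : ∀ x, φ x * H p y₁ + H x p = 0 := fun x => by
    have := hiso x y₁
    rw [hφ, hφ, hy] at this
    simp only [one_smul, H_add_left, H_add_right D.hF, H_smul_left, hpp] at this
    linear_combination this
  have hne1 : H p y₁ ≠ 0 := fun h => hp0' (eq_zero_of_H D.hF fun x => (H_eq_zero_comm D.hF).1 (by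
    simpa [h] using key x))
  have hk := key y₁
  rw [hy, one_mul] at hk
  have hc : (-(H p y₁)⁻¹) + (-(H p y₁)⁻¹) ^ q = 0 := by
    rw [← HermStd.qHom_apply D.hF, map_neg, map_inv₀, HermStd.qHom_apply, H_conj D.hF,
      eq_neg_of_add_eq_zero_right hk, inv_neg, neg_neg, neg_add_cancel]
  refine ⟨p, _, hp0', hpp, neg_ne_zero.2 (inv_ne_zero hne1), hc, fun x => ?_⟩
  rw [hφ]
  congr 2
  field_simp
  linear_combination key x

/-- commuting involutions are equal -/
theorem invol_eq {g g' : GLn} (hg : g ∈ M) (h2 : g * g = 1) (h1 : g ≠ 1) (hg' : g' ∈ M) (h2' : g' * g' = 1)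
    (h1' : g' ≠ 1) (hc : g * g' = g' * g) : g = g' := by
  obtain ⟨p, c, hp, hpp, hc0, hcs, hgx⟩ := invol hyp hg h2 h1
  obtain ⟨p', c', hp', hpp', hc0', hcs', hgx'⟩ := invol hyp hg' h2' h1'
  have hH : H p p' = 0 := by
    by_contra hne
    have e := congrArg (fun k : GLn => (k : Mat) *ᵥ p) hc
    simp only [Max.mulVec_mul_GL, hgx, hgx', H_add_left, H_smul_left, hpp, mul_zero, zero_smul, add_zero,
      zero_add] at e
    have e1 := congrArg (fun v => H v p') e
    simp only [H_add_left, H_smul_left, hpp', mul_zero, add_zero, add_eq_left] at e1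
    exact mul_ne_zero (mul_ne_zero hc0 (mul_ne_zero (mul_ne_zero hc0' hne) fun h => hne ((H_eq_zero_comm D.hF).1 h))) hne e1
  obtain ⟨l, rfl⟩ := iso_dep D.hF D.hn hp hpp hpp' hH
  have hl : l ≠ 0 := fun h => hp' (by rw [h, zero_smul])
  have hgx'' : ∀ x, (g' : Mat) *ᵥ x = x + (c' * (l ^ q * l) * H x p) • p := fun x => by
    rw [hgx', H_smul_right, smul_smul]
    congr 2
    ring
  have hs : c' * (l ^ q * l) + (c' * (l ^ q * l)) ^ q = 0 := by
    rw [mul_pow, mul_pow, pow_qq D.hF]; linear_combination (l ^ q * l) * hcs'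
  have := hyp.one p c _ hp hpp hcs hs hc0 (mul_ne_zero hc0' (mul_ne_zero (pow_ne_zero _ hl) hl))
    (inM_of hg hgx) (inM_of hg' hgx'')
  exact Max.gl_ext fun x => by rw [hgx, hgx'', this]

/-- products of two involutions lie in a solvable normal subgroup of odd order -/
theorem exists_core : ∃ O : Subgroup GLn, O ≤ M ∧ (∀ m ∈ M, ∀ x ∈ O, m * x * m⁻¹ ∈ O) ∧
    Group.IsSolvable O ∧ ∀ s ∈ M, ∀ t ∈ M, s * s = 1 → s ≠ 1 → t * t = 1 → t ≠ 1 → s * t ∈ O := by
  classical
  by_cases hex : ∃ s ∈ M, s * s = 1 ∧ s ≠ 1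
  swap
  · push Not at hex
    haveI : Subsingleton (⊥ : Subgroup GLn) := inferInstance
    exact ⟨⊥, bot_le, fun m _ x hx => by simp [Subgroup.mem_bot.1 hx], inferInstance,
      fun s hs _ _ h2 h1 _ _ => absurd (hex s hs h2) h1⟩
  obtain ⟨s₀, hs₀, h₀2, h₀1⟩ := hex
  have hu : orderOf (⟨s₀, hs₀⟩ : M) = 2 := orderOf_eq_prime (by rw [pow_two]; exact Subtype.ext h₀2)
    fun h => h₀1 (congrArg Subtype.val h)
  set u : M := ⟨s₀, hs₀⟩ with hudef
  obtain ⟨P, hP⟩ := (IsPGroup.of_card (n := 1) (G := Subgroup.zpowers u)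
    (by rw [Nat.card_zpowers, hu, pow_one] : Nat.card (Subgroup.zpowers u) = 2 ^ 1)).exists_le_sylow
  have huP : u ∈ P := hP (Subgroup.mem_zpowers u)
  -- a Sylow subgroup contains one involution
  have hone : ∀ x y : M, x ∈ P → y ∈ P → orderOf x = 2 → orderOf y = 2 → x = y := by
    intro x y hx hy hox hoy
    haveI : Nontrivial (P : Subgroup M) := ⟨⟨⟨x, hx⟩, 1, fun h => by
      rw [show x = 1 from congrArg Subtype.val h, orderOf_one] at hox; omega⟩⟩
    haveI := P.isPGroup'.center_nontrivial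
    obtain ⟨k, hk⟩ := IsPGroup.iff_card.1 (P.isPGroup'.to_subgroup (Subgroup.center (P : Subgroup M)))
    have hk0 : k ≠ 0 := fun h => by
      rw [h, pow_zero] at hk
      exact absurd hk (Finite.one_lt_card (α := Subgroup.center (P : Subgroup M))).ne'
    obtain ⟨z, hz⟩ := exists_prime_orderOf_dvd_card' (G := Subgroup.center (P : Subgroup M)) 2
      (by rw [hk]; exact dvd_pow_self 2 hk0)
    have hoz : orderOf ((z : (P : Subgroup M)) : M) = 2 := by rw [Subgroup.orderOf_coe, Subgroup.orderOf_coe, hz]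
    have key : ∀ w : M, w ∈ P → orderOf w = 2 → w = ((z : (P : Subgroup M)) : M) := by
      intro w hw how
      have cc : w * ((z : (P : Subgroup M)) : M) = ((z : (P : Subgroup M)) : M) * w :=
        congrArg Subtype.val (Subgroup.mem_center_iff.1 z.2 ⟨w, hw⟩)
      have h2w : ∀ w : M, orderOf w = 2 → ((w : GLn) * w = 1 ∧ (w : GLn) ≠ 1) := fun w how => by
        obtain ⟨e1, e2⟩ := orderOf_eq_prime_iff.1 how
        exact ⟨by rw [← Subgroup.coe_mul, ← pow_two, e1]; rfl, fun h => e2 (Subtype.ext h)⟩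
      exact Subtype.ext (invol_eq hyp w.2 (h2w w how).1 (h2w w how).2 ((z : (P : Subgroup M)) : M).2
        (h2w _ hoz).1 (h2w _ hoz).2 (congrArg Subtype.val cc))
    rw [key x hx hox, key y hy hoy]
  obtain ⟨N, hN, hodd, hcomm⟩ := Cfsg.Agent.S0215.result P u hu huP fun g hg =>
    hone _ _ hg huP (by
      rw [show g * u * g⁻¹ = MulAut.conj g u from rfl, MulEquiv.orderOf_eq, hu]) hu
  -- all involutions are conjugate
  have hall : ∀ t : M, orderOf t = 2 → t * u ∈ N := by
    intro t ht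
    obtain ⟨Q, hQ⟩ := (IsPGroup.of_card (n := 1) (G := Subgroup.zpowers t)
      (by rw [Nat.card_zpowers, ht, pow_one] : Nat.card (Subgroup.zpowers t) = 2 ^ 1)).exists_le_sylow
    obtain ⟨g, hg⟩ := MulAction.exists_smul_eq M Q P
    have hgt : g * t * g⁻¹ ∈ P := by
      have h' : t ∈ (Q : Subgroup M) := hQ (Subgroup.mem_zpowers t)
      rw [← hg]
      show g * t * g⁻¹ ∈ ((g • Q : Sylow 2 M) : Subgroup M)
      rw [Sylow.coe_subgroup_smul]
      exact ⟨t, h', rfl⟩
    have hgu : g * t * g⁻¹ = u := hone _ _ hgt huP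
      (by rw [show g * t * g⁻¹ = MulAut.conj g t from rfl, MulEquiv.orderOf_eq, ht]) hu
    have hui : u⁻¹ = u := inv_eq_of_mul_eq_one_right (by
      have := (orderOf_eq_prime_iff.1 hu).1
      rwa [pow_two] at this)
    have h3 := N.inv_mem (hcomm g⁻¹)
    have e : (u * g⁻¹ * u⁻¹ * g⁻¹⁻¹)⁻¹ = t * u := by
      rw [show t = g⁻¹ * u * g by rw [← hgu]; group]
      simp only [_root_.mul_inv_rev, inv_inv, hui]
      group
    rwa [e] at h3
  refine ⟨N.map M.subtype, Subgroup.map_subtype_le N, fun m hm x hx => ?_, ?_, fun s hs t ht s2 s1 t2 t1 => ?_⟩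
  · obtain ⟨y, hy, rfl⟩ := hx
    exact ⟨(⟨m, hm⟩ : M) * y * (⟨m, hm⟩ : M)⁻¹, hN.conj_mem y hy ⟨m, hm⟩, rfl⟩
  · refine Cfsg.Agent.S0205.result ?_
    rw [Subgroup.card_map_of_injective M.subtype_injective]
    exact hodd
  · have ho : ∀ (r : GLn) (hr : r ∈ M), r * r = 1 → r ≠ 1 → orderOf (⟨r, hr⟩ : M) = 2 := fun r hr r2 r1 =>
      orderOf_eq_prime (by rw [pow_two]; exact Subtype.ext r2) fun h => r1 (congrArg Subtype.val h)
    have h1 := N.mul_mem (hall _ (ho s hs s2 s1)) (N.inv_mem (hall _ (ho t ht t2 t1)))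
    refine ⟨_, h1, ?_⟩
    have hti : t⁻¹ = t := inv_eq_of_mul_eq_one_right t2
    simp only [Subgroup.coe_subtype, Subgroup.coe_mul, Subgroup.coe_inv, _root_.mul_inv_rev]
    rw [mul_assoc, mul_inv_cancel_left, hti]

/-- an abelian normal subgroup consists of scalars -/
theorem abelian_scalar (A : Subgroup GLn) (hAM : A ≤ M) (hnorm : ∀ m ∈ M, ∀ x ∈ A, m * x * m⁻¹ ∈ A)
    (hab : ∀ x ∈ A, ∀ y ∈ A, x * y = y * x) : ∀ x ∈ A, ∃ c : F, (x : Mat) = c • 1 := by
  classical
  by_contra hcon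
  push Not at hcon
  obtain ⟨a, ha, hans⟩ := hcon
  have hF := D.hF
  have hH : ∀ {g : GLn}, g ∈ M → ∀ x y, H ((g : Mat) *ᵥ x) ((g : Mat) *ᵥ y) = H x y := fun hg =>
    Unitary.SUn_H (hyp.le hg)
  obtain ⟨e, f, w, B⟩ := exists_hyp D
  obtain ⟨θ, hθ, hθne, hθs, hθN, hθ1⟩ := exists_omega hyp
  obtain ⟨α, hα, hαe⟩ := B.exists_coeff (one_mem D.F₀)
  have hx₁ := B.comb_iso ⟨α, hα⟩ 1 hαe
  -- some rational centre is moved
  obtain ⟨p, hpp, hp⟩ : ∃ p, H (rv D p) (rv D p) = 0 ∧ ∀ l : F, (a : Mat) *ᵥ rv D p ≠ l • rv D p := by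
    by_contra hc
    push Not at hc
    obtain ⟨l₁, h1⟩ := hc e B.ee
    obtain ⟨l₂, h2⟩ := hc f B.ff
    obtain ⟨l₃, h3⟩ := hc _ hx₁
    have hl : H (rv D w) (rv D w) ≠ 0 := B.ww
    have he0 : rv D e ≠ 0 := fun h => by
      have h' := B.ef
      rw [h, H_zero_left] at h'
      exact zero_ne_one h'
    have hf0 : rv D f ≠ 0 := fun h => by
      have h' := B.fe
      rw [h, H_zero_left] at h'
      exact zero_ne_one h'
    simp only [rv_add, rv_smul, OneMemClass.coe_one, one_smul, mulVec_add, mulVec_smul, h1, h2] at h3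
    -- the pole is fixed
    have hae : ∀ y, H ((a : Mat) *ᵥ rv D w) ((a : Mat) *ᵥ y) = H (rv D w) y := fun y => hH (hAM ha) _ _
    have hl₁ : l₁ ≠ 0 := fun h => Max.mulVec_ne_zero a he0 (by rw [h1, h, zero_smul])
    have hl₂ : l₂ ≠ 0 := fun h => Max.mulVec_ne_zero a hf0 (by rw [h2, h, zero_smul])
    have hwe : H ((a : Mat) *ᵥ rv D w) (rv D e) = 0 := by
      have := hae (rv D e)
      rw [h1, H_smul_right, B.we] at this
      exact (mul_eq_zero.1 this).resolve_left (pow_ne_zero _ hl₁)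
    have hwf : H ((a : Mat) *ᵥ rv D w) (rv D f) = 0 := by
      have := hae (rv D f)
      rw [h2, H_smul_right, B.wf] at this
      exact (mul_eq_zero.1 this).resolve_left (pow_ne_zero _ hl₂)
    have hα0 : α ≠ 0 := fun h => hl (by
      rw [h, zero_pow (q_ne_zero hF)] at hαe
      simpa using hαe)
    have e1 := congrArg (fun v => H v (rv D f)) h3
    have e2 := congrArg (fun v => H v (rv D e)) h3
    simp only [H_add_left, H_smul_left, B.ee, B.ff, B.ef, B.fe, B.we, B.wf, hwe, hwf, mul_zero, mul_one,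
      add_zero, zero_add] at e1 e2
    have e13 : l₁ = l₃ := mul_left_cancel₀ hα0 (by linear_combination e1)
    refine hans l₁ (Matrix.ext_of_mulVec_single fun i => ?_)
    rw [Matrix.smul_mulVec, Matrix.one_mulVec, B.dec (Pi.single i 1)]
    have h3' : (a : Mat) *ᵥ rv D w = l₁ • rv D w := by
      rw [← sub_eq_zero]
      rw [← sub_eq_zero, e2, e13] at h3
      rw [← h3, e13]
      module
    simp only [mulVec_add, mulVec_smul, h1, h2, h3', e2, e13]
    module
  obtain ⟨s, hs, hsx⟩ := exists_rat_tv hyp hpp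
  set p' := (a : Mat) *ᵥ rv D p with hp'
  have hp'p' : H p' p' = 0 := by rw [hp', hH (hAM ha)]; exact hpp
  have hp0 : rv D p ≠ 0 := fun h => hp 0 (by rw [hp', h, mulVec_zero, zero_smul])
  have hpp' : H (rv D p) p' ≠ 0 := fun h => by
    obtain ⟨l, hl⟩ := iso_dep hF D.hn hp0 hpp hp'p' h
    exact hp l hl
  -- the commutator fixes one line
  let Zp : Vec → Prop := fun z => H z z ≠ 0 ∧ ∃ c ∈ A, (c : Mat) *ᵥ z = z ∧
    ∀ x, (c : Mat) *ᵥ x = x → ∃ l : F, x = l • z
  obtain ⟨z₀, hz₀⟩ : ∃ z, Zp z := by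
    have hs' : ∀ x, ((a * s * a⁻¹ : GLn) : Mat) *ᵥ x = x + H x p' • p' := fun x => by
      rw [Max.mulVec_mul_GL, Max.mulVec_mul_GL, hsx, mulVec_add, mulVec_smul, Max.mulVec_inv_cancel, hp',
        ← hH (hAM ha) (((a⁻¹ : GLn) : Mat) *ᵥ x), Max.mulVec_inv_cancel]
    have hss : s * s = 1 := Max.gl_ext fun x => by
      rw [Max.mulVec_mul_GL, hsx, hsx]
      simp only [H_add_left, H_smul_left, hpp, mul_zero, add_zero, Units.val_one, one_mulVec]
      rw [add_assoc, ← add_smul, ← two_mul, two_zero hyp, zero_mul, zero_smul, add_zero]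
    have hc : s * (a * s * a⁻¹) ∈ A := by
      rw [show s * (a * s * a⁻¹) = (s * a * s⁻¹) * a⁻¹ by rw [inv_eq_of_mul_eq_one_right hss]; group]
      exact mul_mem (hnorm s hs a ha) (inv_mem ha)
    obtain ⟨z, hzz, hzp, hzp', hbas⟩ := exists_pole hF D.hn hpp hp'p'
      (fun h => hpp' ((H_eq_zero_comm hF).1 h))
    refine ⟨z, hzz, _, hc, ?_, fun x hx => ?_⟩
    · rw [Max.mulVec_mul_GL, hs', hzp', zero_smul, add_zero, hsx, hzp, zero_smul, add_zero]
    · rw [Max.mulVec_mul_GL, hs', hsx] at hx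
      obtain ⟨a', b', c', rfl⟩ := hbas x
      have hp'p : H p' (rv D p) ≠ 0 := fun h => hpp' ((H_eq_zero_comm hF).1 h)
      have e1 := congrArg (fun v => H v (rv D p)) hx
      have e2 := congrArg (fun v => H v p') hx
      simp only [H_add_left, H_smul_left, hpp, hp'p', hzp, hzp', mul_zero, add_zero, zero_add,
        add_eq_left] at e1 e2
      have ha' : a' = 0 := by
        rcases mul_eq_zero.1 e1 with h | h
        · exact (mul_eq_zero.1 h).resolve_right hpp'
        · exact absurd h hp'p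
      rw [ha', zero_mul, zero_mul, add_zero] at e2
      have hb' : b' = 0 :=
        ((mul_eq_zero.1 ((mul_eq_zero.1 e2).resolve_right hpp'))).resolve_right hp'p
      exact ⟨c', by rw [ha', hb', zero_smul, zero_smul, zero_add, zero_add]⟩
  have hzne : ∀ {z}, Zp z → z ≠ 0 := fun hz h => hz.1 (by rw [h, H_zero_left])
  have heig : ∀ {z}, Zp z → ∀ b ∈ A, ∃ μ : F, (b : Mat) *ᵥ z = μ • z := by
    rintro z ⟨-, c, hc, hcz, hcf⟩ b hb
    refine hcf _ ?_
    rw [← Max.mulVec_mul_GL, hab c hc b hb, Max.mulVec_mul_GL, hcz]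
  have horth : ∀ {z z'}, Zp z → Zp z' → (∃ l : F, z' = l • z) ∨ H z' z = 0 := by
    intro z z' hz hz'
    obtain ⟨-, c, hc, hcz, hcf⟩ := hz
    obtain ⟨μ, hμ⟩ := heig hz' c hc
    by_cases h : H z' z = 0
    · exact Or.inr h
    refine Or.inl (hcf _ ?_)
    have e := hH (hAM hc) z' z
    rw [hμ, hcz, H_smul_left, mul_eq_right₀ h] at e
    rw [hμ, e, one_smul]
  have himg : ∀ {z}, Zp z → ∀ m ∈ M, Zp ((m : Mat) *ᵥ z) := by
    rintro z ⟨hzz, c, hc, hcz, hcf⟩ m hm
    refine ⟨by rwa [hH hm], _, hnorm m hm c hc, ?_, fun x hx => ?_⟩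
    · rw [Max.mulVec_mul_GL, Max.mulVec_mul_GL, Max.inv_mulVec_cancel, hcz]
    · rw [Max.mulVec_mul_GL, Max.mulVec_mul_GL] at hx
      obtain ⟨l, hl⟩ := hcf (((m⁻¹ : GLn) : Mat) *ᵥ x) (Max.mulVec_inj m (by rw [hx, Max.mulVec_inv_cancel]))
      exact ⟨l, by rw [← mulVec_smul, ← hl, Max.mulVec_inv_cancel]⟩
  have hscale : ∀ {z}, Zp z → ∀ l : F, l ≠ 0 → Zp (l • z) := by
    rintro z ⟨hzz, c, hc, hcz, hcf⟩ l hl
    refine ⟨?_, c, hc, by rw [mulVec_smul, hcz], fun x hx => ?_⟩
    · rw [H_smul_left, H_smul_right]; exact mul_ne_zero hl (mul_ne_zero (pow_ne_zero _ hl) hzz)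
    · obtain ⟨k, rfl⟩ := hcf x hx
      exact ⟨k / l, by rw [smul_smul, div_mul_cancel₀ _ hl]⟩
  -- a rational transvection moves a member to an orthogonal one
  have hmove : ∀ {z}, Zp z → ∀ b, H (rv D b) (rv D b) = 0 → H z (rv D b) ≠ 0 →
      Zp (z + H z (rv D b) • rv D b) ∧ H (z + H z (rv D b) • rv D b) z = 0 := by
    intro z hz b hb hne
    obtain ⟨t, ht, htx⟩ := exists_rat_tv hyp hb
    have h := himg hz t ht
    rw [htx] at h
    refine ⟨h, (horth hz h).resolve_left ?_⟩
    rintro ⟨l, hl⟩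
    have e1 := congrArg (fun v => H v (rv D b)) hl
    simp only [H_add_left, H_smul_left, hb, mul_zero, add_zero] at e1
    have l1 : l = 1 := mul_right_cancel₀ hne (by rw [one_mul]; exact e1.symm)
    rw [l1, one_smul, add_eq_left, smul_eq_zero] at hl
    rcases hl with h | h
    · exact hne h
    · exact hne (by rw [h, H_zero_right hF])
  -- orthogonal pairs
  have hdec : ∀ {z z' y : Vec}, H z z ≠ 0 → H z' z' ≠ 0 → H z' z = 0 → y ≠ 0 → H y z = 0 → H y z' = 0 →
      H y y ≠ 0 ∧ ∀ x, H x z = 0 → H x z' = 0 → ∃ l : F, x = l • y := by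
    intro z z' y hz hz' hzz' hy0 hyz hyz'
    have hli : LinearIndependent F ![z, z', y] := by
      refine Fintype.linearIndependent_iff.2 fun c hc => ?_
      simp only [Fin.sum_univ_three, Matrix.cons_val_zero, Matrix.cons_val_one, Matrix.cons_val_two,
        Matrix.tail_cons, Matrix.head_cons] at hc
      have e1 := congrArg (fun v => H v z) hc
      have e2 := congrArg (fun v => H v z') hc
      simp only [H_add_left, H_smul_left, hzz', hyz, hyz', (H_eq_zero_comm hF).1 hzz', H_zero_left, mul_zero,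
        add_zero, zero_add] at e1 e2
      have h0 := (mul_eq_zero.1 e1).resolve_right hz
      have h1 := (mul_eq_zero.1 e2).resolve_right hz'
      rw [h0, h1, zero_smul, zero_smul, zero_add, zero_add, smul_eq_zero] at hc
      intro i
      fin_cases i
      exacts [h0, h1, hc.resolve_right hy0]
    have hsp := hli.span_eq_top_of_card_eq_finrank
      (by rw [Module.finrank_fintype_fun_eq_card, Fintype.card_fin, Fintype.card_fin, D.hn])
    have hcomb : ∀ x, ∃ c : Fin 3 → F, x = c 0 • z + c 1 • z' + c 2 • y := fun x => by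
      obtain ⟨c, hc⟩ := (Submodule.mem_span_range_iff_exists_fun F).1 (hsp ▸ Submodule.mem_top : x ∈ _)
      exact ⟨c, by simpa [Fin.sum_univ_three] using hc.symm⟩
    refine ⟨fun hyy => hy0 (eq_zero_of_H hF fun x => ?_), fun x hxz hxz' => ?_⟩
    · obtain ⟨c, rfl⟩ := hcomb x
      simp [H_add_right hF, H_smul_right, hyz, hyz', hyy]
    · obtain ⟨c, rfl⟩ := hcomb x
      simp only [H_add_left, H_smul_left, hzz', hyz, hyz', (H_eq_zero_comm hF).1 hzz', mul_zero, add_zero,
        zero_add] at hxz hxz'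
      exact ⟨c 2, by rw [(mul_eq_zero.1 hxz).resolve_right hz, (mul_eq_zero.1 hxz').resolve_right hz',
        zero_smul, zero_smul, zero_add, zero_add]⟩
  -- an orthogonal frame in the orbit
  have hframe : ∀ z, Zp z → ∀ R : Vec → Prop, R z →
      (∀ x b, R x → H (rv D b) (rv D b) = 0 → R (x + H x (rv D b) • rv D b)) →
      ∃ z' z'', Zp z' ∧ Zp z'' ∧ R z' ∧ R z'' ∧ H z' z = 0 ∧ H z'' z = 0 ∧ H z'' z' = 0 := by
    intro z hz R hRz hR
    obtain ⟨b, hb, hne⟩ := exists_iso_off hyp (hzne hz)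
    obtain ⟨hz', hor⟩ := hmove hz b hb hne
    set z' := z + H z (rv D b) • rv D b
    have hW := Unitary.finrank_perp hF (Submodule.span F (Set.range ![z, z']))
    have hW2 : Module.finrank F (Submodule.span F (Set.range ![z, z'])) ≤ 2 :=
      (finrank_range_le_card ![z, z']).trans_eq (Fintype.card_fin 2)
    obtain ⟨y, hy, hy0⟩ := Submodule.exists_mem_ne_zero_of_ne_bot
      (p := Unitary.perp q (Submodule.span F (Set.range ![z, z']))) (fun h => by
        rw [h, finrank_bot] at hW; have := D.hn; omega)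
    have hyz : H y z = 0 := Unitary.mem_perp.1 hy z (Submodule.subset_span ⟨0, rfl⟩)
    have hyz' : H y z' = 0 := Unitary.mem_perp.1 hy z' (Submodule.subset_span ⟨1, rfl⟩)
    obtain ⟨hyy, -⟩ := hdec hz.1 hz'.1 hor hy0 hyz hyz'
    obtain ⟨b', hb', hne'⟩ := exists_iso_off hyp hy0
    have hby : H (rv D b') y ≠ 0 := fun h => hne' ((H_eq_zero_comm hF).1 h)
    have hR' := hR z b hRz hb
    -- the moved one is orthogonal to the other
    have step : ∀ {u v : Vec}, Zp u → Zp v → H u v = 0 → H y u = 0 → H y v = 0 → H u (rv D b') ≠ 0 →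
        H (u + H u (rv D b') • rv D b') v = 0 := by
      intro u v hu hv _ hyu hyv hub
      obtain ⟨h1, -⟩ := hmove hu b' hb' hub
      refine (horth hv h1).resolve_left ?_
      rintro ⟨l, hl⟩
      have e := congrArg (fun x => H x y) hl
      simp only [H_add_left, H_smul_left, (H_eq_zero_comm hF).1 hyu, (H_eq_zero_comm hF).1 hyv, mul_zero,
        zero_add] at e
      exact mul_ne_zero hub hby e
    by_cases h1 : H z (rv D b') = 0
    · by_cases h2 : H z' (rv D b') = 0
      · exfalso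
        obtain ⟨-, hall⟩ := hdec hz.1 hz'.1 hor hy0 hyz hyz'
        obtain ⟨l, hl⟩ := hall (rv D b') ((H_eq_zero_comm hF).1 h1) ((H_eq_zero_comm hF).1 h2)
        rw [hl, H_smul_left, H_smul_right] at hb'
        rcases mul_eq_zero.1 hb' with h | h
        · exact hne' (by rw [hl, h, zero_smul, H_zero_right hF])
        · rcases mul_eq_zero.1 h with h | h
          · exact hne' (by rw [hl, eq_zero_of_pow_eq_zero h, zero_smul, H_zero_right hF])
          · exact hyy h
      · exact ⟨z', _, hz', (hmove hz' b' hb' h2).1, hR', hR _ b' hR' hb', hor,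
          step hz' hz hor hyz' hyz h2, (hmove hz' b' hb' h2).2⟩
    · exact ⟨z', _, hz', (hmove hz b' hb' h1).1, hR', hR _ b' hRz hb', hor, (hmove hz b' hb' h1).2,
        step hz hz' ((H_eq_zero_comm hF).1 hor) hyz hyz' h1⟩
  -- two rational centres orthogonal to one member
  obtain ⟨r, hr⟩ : ∃ r, Zp (rv D r) := by
    obtain ⟨z', z'', hz', hz'', -, -, h1, h2, h3⟩ := hframe z₀ hz₀ (fun _ => True) trivial (fun _ _ _ _ => trivial)
    let Zs : Fin 3 → Vec := ![z₀, z', z'']
    have hZs : ∀ i, Zp (Zs i) := fun i => by fin_cases i <;> assumption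
    have hperp : ∀ b, H (rv D b) (rv D b) = 0 → ∃ i, H (Zs i) (rv D b) = 0 := by
      intro b hb
      by_contra hc
      push Not at hc
      obtain ⟨hm, ho⟩ := hmove hz₀ b hb (hc 0)
      obtain ⟨-, hall⟩ := hdec hz₀.1 hz'.1 h1 (hzne hz'') h2 h3
      rcases horth hz' hm with ⟨l, hl⟩ | ho'
      · have e := congrArg (fun x => H x z'') hl
        simp only [H_add_left, H_smul_left, (H_eq_zero_comm hF).1 h2, (H_eq_zero_comm hF).1 h3, mul_zero,
          zero_add] at e
        exact mul_ne_zero (hc 0) (fun h => hc 2 ((H_eq_zero_comm hF).1 h)) e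
      · obtain ⟨l, hl⟩ := hall _ ho ho'
        have e := congrArg (fun x => H x z') hl
        simp only [H_add_left, H_smul_left, (H_eq_zero_comm hF).1 h1, h3, mul_zero, zero_add] at e
        exact mul_ne_zero (hc 0) (fun h => hc 1 ((H_eq_zero_comm hF).1 h)) e
    have hx₂ := B.comb_iso ⟨α, hα⟩ ⟨θ, hθ⟩ (by
      show α + α ^ q + θ * θ ^ q * _ = 0
      rw [hθN]
      simpa using hαe)
    let qs : Fin 4 → Idx → D.F₀ :=
      ![e, f, (⟨α, hα⟩ : D.F₀) • e + f + (1 : D.F₀) • w, (⟨α, hα⟩ : D.F₀) • e + f + (⟨θ, hθ⟩ : D.F₀) • w]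
    have hqs : ∀ i, H (rv D (qs i)) (rv D (qs i)) = 0 := fun i => by
      fin_cases i
      exacts [B.ee, B.ff, hx₁, hx₂]
    choose g hg using fun i => hperp _ (hqs i)
    obtain ⟨i, j, hij, hgij⟩ := Fintype.exists_ne_map_eq_of_card_lt g (by simp)
    have hdiff : ∀ i j, i ≠ j → ∀ l : F, rv D (qs j) ≠ l • rv D (qs i) := by
      intro i j hij l hl
      have hθw : θ * H (rv D w) (rv D w) ≠ H (rv D w) (rv D w) := fun h =>
        hθ1 (mul_right_cancel₀ B.ww (by rw [h, one_mul]))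
      have hθ0 : θ ≠ 0 := fun h => hθne (by rw [h, zero_pow (q_ne_zero hF)])
      have v1 : ∀ i, H (rv D (qs i)) (rv D f) = ![1, 0, α, α] i := fun i => by
        fin_cases i <;> simp [qs, rv_add, rv_smul, H_add_left, H_smul_left, B.ff, B.ef, B.wf]
      have v2 : ∀ i, H (rv D (qs i)) (rv D e) = ![0, 1, 1, 1] i := fun i => by
        fin_cases i <;> simp [qs, rv_add, rv_smul, H_add_left, H_smul_left, B.ee, B.fe, B.we]
      have v3 : ∀ i, H (rv D (qs i)) (rv D w) =
          ![0, 0, H (rv D w) (rv D w), θ * H (rv D w) (rv D w)] i := fun i => by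
        fin_cases i <;> simp [qs, rv_add, rv_smul, H_add_left, H_smul_left, B.ew, B.fw]
      have e1 := congrArg (fun x => H x (rv D f)) hl
      have e2 := congrArg (fun x => H x (rv D e)) hl
      have e3 := congrArg (fun x => H x (rv D w)) hl
      simp only [H_smul_left, v1, v2, v3] at e1 e2 e3
      clear * - e1 e2 e3 hij hθw hθ0 B
      have hw := B.ww
      fin_cases i <;> fin_cases j <;> simp at e1 e2 e3 hij ⊢ <;> subst_vars <;> simp at * <;>
        first
          | exact hw e3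
          | exact hw (e3.resolve_left hθ0)
          | exact hθw e3.symm
          | exact hw (e3.resolve_left fun h => hθw (by rw [h, one_mul]))
    let L : (Idx → D.F₀) →ₗ[D.F₀] (Fin 2 → D.F₀) := LinearMap.pi ![form0 D (qs i), form0 D (qs j)]
    obtain ⟨r, hr, hr0⟩ := Submodule.exists_mem_ne_zero_of_ne_bot (p := LinearMap.ker L) (fun h => by
      have h1 := finrank_ker D L
      rw [h, finrank_bot] at h1
      have := D.hn
      omega)
    have hri : H (rv D r) (rv D (qs i)) = 0 := by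
      rw [← form0_coe, show form0 D (qs i) r = 0 from congrFun (LinearMap.mem_ker.1 hr) 0]; rfl
    have hrj : H (rv D r) (rv D (qs j)) = 0 := by
      rw [← form0_coe, show form0 D (qs j) r = 0 from congrFun (LinearMap.mem_ker.1 hr) 1]; rfl
    have hqi0 : rv D (qs i) ≠ 0 := by
      have h' := hdiff j i hij.symm 0
      rwa [zero_smul] at h'
    have hji : H (rv D (qs j)) (rv D (qs i)) ≠ 0 := fun h => by
      obtain ⟨l, hl⟩ := iso_dep hF D.hn hqi0 (hqs i) (hqs j) ((H_eq_zero_comm hF).1 h)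
      exact hdiff i j hij l hl
    obtain ⟨y, hyy, hyi, hyj, hbas⟩ := exists_pole hF D.hn (hqs i) (hqs j) hji
    have hline : ∀ x, H x (rv D (qs i)) = 0 → H x (rv D (qs j)) = 0 → ∃ c : F, x = c • y := by
      intro x hxi hxj
      obtain ⟨a, b, c, rfl⟩ := hbas x
      simp only [H_add_left, H_smul_left, hqs i, hqs j, hyi, hyj, mul_zero, add_zero, zero_add] at hxi hxj
      exact ⟨c, by rw [(mul_eq_zero.1 hxi).resolve_right hji,
        (mul_eq_zero.1 hxj).resolve_right (fun h => hji ((H_eq_zero_comm hF).1 h)), zero_smul, zero_smul,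
        zero_add, zero_add]⟩
    obtain ⟨c₁, hc₁⟩ := hline _ hri hrj
    obtain ⟨c₂, hc₂⟩ := hline (Zs (g i)) (hg i) (by rw [hgij]; exact hg j)
    have hc₁0 : c₁ ≠ 0 := fun h => hr0 (rv_eq_zero D (by rw [hc₁, h, zero_smul]))
    have hc₂0 : c₂ ≠ 0 := fun h => hzne (hZs (g i)) (by rw [hc₂, h, zero_smul])
    refine ⟨r, ?_⟩
    have := hscale (hZs (g i)) (c₁ / c₂) (div_ne_zero hc₁0 hc₂0)
    rwa [hc₂, smul_smul, div_mul_cancel₀ _ hc₂0, ← hc₁] at this
  obtain ⟨z', z'', hz', hz'', ⟨r', rfl⟩, ⟨r'', rfl⟩, h1, h2, h3⟩ := hframe _ hr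
    (fun x => ∃ y, x = rv D y) ⟨r, rfl⟩ (by
      rintro _ b ⟨y, rfl⟩ hb
      exact ⟨y + form0 D b y • b, by rw [rv_add, rv_smul, form0_coe]⟩)
  have hn1 : ∀ {y}, Zp (rv D y) → H (rv D y) (rv D y) = 1 := fun hy =>
    (hyp.small _ (H_rat D _ _) (H_conj hF _ _)).resolve_left hy.1
  set f₀ := r + r' + r'' with hf₀
  have hf1 : H (rv D f₀) (rv D r) = 1 := by simp [hf₀, rv_add, H_add_left, hn1 hr, h1, h2]
  have hf2 : H (rv D f₀) (rv D r') = 1 := by
    simp [hf₀, rv_add, H_add_left, hn1 hz', (H_eq_zero_comm hF).1 h1, h3]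
  have hf3 : H (rv D f₀) (rv D r'') = 1 := by
    simp [hf₀, rv_add, H_add_left, hn1 hz'', (H_eq_zero_comm hF).1 h2, (H_eq_zero_comm hF).1 h3]
  have hff : H (rv D f₀) (rv D f₀) = 1 := by
    have e : rv D f₀ = rv D r + rv D r' + rv D r'' := by rw [hf₀, rv_add, rv_add]
    nth_rw 2 [e]
    rw [H_add_right hF, H_add_right hF, hf1, hf2, hf3]
    linear_combination two_zero hyp
  have hf1' : H (rv D r) (rv D f₀) = 1 := by rw [← H_conj hF, hf1, one_pow]
  obtain ⟨R₁, hR₁, hR₁d, hR₁x⟩ := Unitary.exists_quasi hF (z := rv D f₀) (by rw [hff]; exact one_ne_zero)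
    (δ := θ) (by rw [pow_succ, mul_comm, hθN])
  obtain ⟨R₂, hR₂, hR₂d, hR₂x⟩ := Unitary.exists_quasi hF (z := rv D r) (by rw [hn1 hr]; exact one_ne_zero)
    (δ := θ ^ q) (by rw [pow_succ, pow_qq hF, hθN])
  have hk : R₁ * R₂ ∈ M := by
    refine hyp.low _ (Unitary.mem_SUn.2 ⟨(mul_mem hR₁ hR₂ : R₁ * R₂ ∈ Cfsg.GU n F q), by
      rw [Units.val_mul, det_mul, hR₁d, hR₂d, hθN]⟩) ⟨1, one_ne_zero, fun x => ?_⟩
    refine ⟨(x + ((⟨θ ^ q, pow_mem_F₀ D hθ⟩ - 1) * form0 D r x : D.F₀) • r) + ((⟨θ, hθ⟩ - 1) *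
      form0 D f₀ (x + ((⟨θ ^ q, pow_mem_F₀ D hθ⟩ - 1) * form0 D r x : D.F₀) • r) : D.F₀) • f₀, ?_⟩
    simp only [one_smul, Max.mulVec_mul_GL, hR₁x, hR₂x, hff, hn1 hr, div_one, rv_add, rv_smul,
      MulMemClass.coe_mul, AddSubgroupClass.coe_sub, OneMemClass.coe_one, form0_coe]
  have hke := himg hr _ hk
  have himage : ((R₁ * R₂ : GLn) : Mat) *ᵥ rv D r = θ ^ q • (rv D r + (θ - 1) • rv D f₀) := by
    rw [Max.mulVec_mul_GL, hR₂x, hn1 hr, div_one, mul_one,
      show rv D r + (θ ^ q - 1) • rv D r = θ ^ q • rv D r by module, hR₁x, hff, div_one, H_smul_left, hf1',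
      mul_one, smul_add, smul_smul, mul_comm (θ - 1)]
  rw [himage] at hke
  have hc0 : θ ^ q * (θ - 1) ≠ 0 := mul_ne_zero
    (pow_ne_zero _ fun h => hθne (by rw [h, zero_pow (q_ne_zero hF)])) (sub_ne_zero.2 hθ1)
  have e2 : H (θ ^ q • (rv D r + (θ - 1) • rv D f₀)) (rv D r') = θ ^ q * (θ - 1) := by
    rw [H_smul_left, H_add_left, H_smul_left, hf2, (H_eq_zero_comm hF).1 h1]; ring
  have e3 : H (θ ^ q • (rv D r + (θ - 1) • rv D f₀)) (rv D r'') = θ ^ q * (θ - 1) := by
    rw [H_smul_left, H_add_left, H_smul_left, hf3, (H_eq_zero_comm hF).1 h2]; ring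
  rcases horth hz' hke with ⟨l, hl⟩ | h
  · rw [hl, H_smul_left, (H_eq_zero_comm hF).1 h3, mul_zero] at e3
    exact hc0 e3.symm
  · exact hc0 (e2.symm.trans h)

/-- involutions act as inversion on two such members of a normal subgroup -/
theorem invol_action {E : Subgroup GLn} (hEM : E ≤ M) (hnorm : ∀ m ∈ M, ∀ x ∈ E, m * x * m⁻¹ ∈ E)
    (hsc : ∀ x ∈ E, ∀ y ∈ E, ∃ c : F, ((x * y * x⁻¹ * y⁻¹ : GLn) : Mat) = c • 1) {a b : GLn} (ha : a ∈ E)
    (hb : b ∈ E) {ω : F} (hω3 : ω ^ 3 = 1) (hω1 : ω ≠ 1) (hab : (a : Mat) * b = ω • ((b : Mat) * a))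
    {s : GLn} (hs : s ∈ M) (hs2 : s * s = 1) (hs1 : s ≠ 1) :
    ∃ c : F, (s : Mat) * a * s = c • ((a : Mat) * a) := by
  have hn := D.hn
  haveI : Nonempty (Fin n) := ⟨⟨0, by omega⟩⟩
  have hdet : ∀ g : GLn, (g : Mat).det ≠ 0 := fun g => ((Matrix.isUnit_iff_isUnit_det _).1 g.isUnit).ne_zero
  have hcomm : ∀ x ∈ E, ∀ y ∈ E, ∃ c : F, c ^ 3 = 1 ∧ (x : Mat) * y = c • ((y : Mat) * x) := by
    intro x hx y hy
    obtain ⟨c, hc⟩ := hsc x hx y hy
    have e : (x : Mat) * y = c • ((y : Mat) * x) := by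
      calc (x : Mat) * y = ((x * y * x⁻¹ * y⁻¹ : GLn) : Mat) * ((y : Mat) * x) := by
            rw [← Units.val_mul, ← Units.val_mul, ← Units.val_mul]
            congr 1
            group
        _ = c • ((y : Mat) * x) := by rw [hc, smul_mul_assoc, one_mul]
    refine ⟨c, ?_, e⟩
    have e' := congrArg det e
    rw [det_mul, det_smul, det_mul, Fintype.card_fin, mul_comm (det (x : Mat))] at e'
    have e3 := (mul_eq_right₀ (mul_ne_zero (hdet y) (hdet x))).1 e'.symm
    rwa [hn] at e3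
  have hss : (s : Mat) * s = 1 := by rw [← Units.val_mul, hs2, Units.val_one]
  have hss' : ∀ X : Mat, (s : Mat) * ((s : Mat) * X) = X := fun X => by rw [← mul_assoc, hss, one_mul]
  have hconjE : ∀ x ∈ E, s * x * s ∈ E := fun x hx => by
    have := hnorm s hs x hx
    rwa [inv_eq_of_mul_eq_one_right hs2] at this
  have h31 : ∀ c : F, c ^ 3 = 1 → c = 1 ∨ c = ω ∨ c = ω * ω := fun c hc => by
    by_contra hne
    push Not at hne
    have hz : (c - ω) * (c - ω * ω) = 0 := by
      have hω : ω ^ 2 + ω + 1 = 0 := (mul_eq_zero.1 (show (ω - 1) * (ω ^ 2 + ω + 1) = 0 by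
        linear_combination hω3)).resolve_left (sub_ne_zero.2 hω1)
      have hc' : c ^ 2 + c + 1 = 0 := (mul_eq_zero.1 (show (c - 1) * (c ^ 2 + c + 1) = 0 by
        linear_combination hc)).resolve_left (sub_ne_zero.2 hne.1)
      linear_combination hc' - c * hω + hω3 - (hω - hω)
    rcases mul_eq_zero.1 hz with h | h
    · exact hne.2.1 (sub_eq_zero.1 h)
    · exact hne.2.2 (sub_eq_zero.1 h)
  -- each image commutes with the member
  have hfix : ∀ x ∈ E, (s : Mat) * x * s * x = (x : Mat) * ((s : Mat) * x * s) := by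
    intro x hx
    obtain ⟨l, -, hl⟩ := hcomm _ (hconjE x hx) x hx
    simp only [Units.val_mul] at hl
    have h2 : (x : Mat) * ((s : Mat) * x * s) = l • ((s : Mat) * x * s * x) := by
      have e := congrArg (fun X => (s : Mat) * X * s) hl
      simp only [mul_assoc, mul_smul_comm, smul_mul_assoc, hss', hss, mul_one] at e ⊢
      exact e
    rw [h2, smul_smul] at hl
    have hne : (s : Mat) * x * s * x ≠ 0 := fun h => by
      have e := congrArg det h
      rw [det_mul, det_mul, det_mul, det_zero] at e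
      exact mul_ne_zero (mul_ne_zero (mul_ne_zero (hdet s) (hdet x)) (hdet s)) (hdet x) e
    have hl1 : l * l = 1 := smul_left_injective F hne (by simpa using hl.symm)
    have : l = 1 := by
      have h0 : (l - 1) * (l - 1) = 0 := by linear_combination hl1 + (1 - l) * two_zero hyp
      exact sub_eq_zero.1 (mul_self_eq_zero.1 h0)
    rw [h2, this, one_smul]
  -- the image of one member is its square or itself
  have himg : ∀ x ∈ E, ∀ y ∈ E, ∀ μ : F, μ ^ 3 = 1 → μ ≠ 1 → (x : Mat) * y = μ • ((y : Mat) * x) →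
      (∃ c : F, (s : Mat) * x * s = c • (x : Mat)) ∨ ∃ c : F, (s : Mat) * x * s = c • ((x : Mat) * x) := by
    intro x hx y hy μ hμ3 hμ1 hxy
    obtain ⟨l, hl3, hl⟩ := hcomm _ (hconjE x hx) y hy
    simp only [Units.val_mul] at hl
    set X := (s : Mat) * x * s with hX
    obtain ⟨k, hk⟩ : ∃ k : ℕ, k < 3 ∧ l = μ ^ k := by
      have hμ : μ = ω ∨ μ = ω * ω := (h31 μ hμ3).resolve_left hμ1
      rcases h31 l hl3 with rfl | rfl | rfl <;> rcases hμ with rfl | rfl
      exacts [⟨0, by norm_num, by simp⟩, ⟨0, by norm_num, by simp⟩, ⟨1, by norm_num, by simp⟩,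
        ⟨2, by norm_num, by linear_combination -l * hω3⟩, ⟨2, by norm_num, by ring⟩, ⟨1, by norm_num, by simp⟩]
    obtain ⟨hk3, rfl⟩ := hk
    have key : ∀ Y : GLn, (Y : Mat) * x = (x : Mat) * Y → (Y : Mat) * y = μ ^ k • ((y : Mat) * Y) →
        ∃ c : F, X = c • (Y : Mat) := by
      intro Y hYx hYy
      have hYi : ((Y⁻¹ : GLn) : Mat) * Y = 1 := by rw [← Units.val_mul, inv_mul_cancel, Units.val_one]
      have hiY : (Y : Mat) * (Y⁻¹ : GLn) = 1 := by rw [← Units.val_mul, mul_inv_cancel, Units.val_one]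
      have hμ0 : μ ^ k ≠ 0 := pow_ne_zero _ fun h => by simp [h] at hμ3
      have hxY : ((Y⁻¹ : GLn) : Mat) * x = (x : Mat) * (Y⁻¹ : GLn) := by
        calc ((Y⁻¹ : GLn) : Mat) * x = ((Y⁻¹ : GLn) : Mat) * ((x : Mat) * Y) * (Y⁻¹ : GLn) := by
              rw [mul_assoc, mul_assoc, hiY, mul_one]
          _ = (x : Mat) * (Y⁻¹ : GLn) := by rw [← hYx, ← mul_assoc, hYi, one_mul]
      have hyY : μ ^ k • (((Y⁻¹ : GLn) : Mat) * y) = (y : Mat) * (Y⁻¹ : GLn) := by
        calc μ ^ k • (((Y⁻¹ : GLn) : Mat) * y) =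
              ((Y⁻¹ : GLn) : Mat) * (μ ^ k • ((y : Mat) * Y)) * (Y⁻¹ : GLn) := by
              rw [mul_smul_comm, smul_mul_assoc, mul_assoc, mul_assoc, hiY, mul_one]
          _ = (y : Mat) * (Y⁻¹ : GLn) := by rw [← hYy, ← mul_assoc, hYi, one_mul]
      obtain ⟨c, hc⟩ := schur hn (C := X * (Y⁻¹ : GLn)) hμ3 hμ1 hxy (hdet x) (hdet y)
        (by rw [mul_assoc, hxY, ← mul_assoc, hfix x hx, mul_assoc])
        (smul_right_injective Mat hμ0 (show μ ^ k • (X * (Y⁻¹ : GLn) * (y : Mat)) =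
            μ ^ k • ((y : Mat) * (X * (Y⁻¹ : GLn))) by
          rw [mul_assoc, ← mul_smul_comm, hyY, ← mul_assoc, hl, smul_mul_assoc, mul_assoc]))
      refine ⟨c, ?_⟩
      rw [← mul_one X, ← hYi, ← mul_assoc, hc, smul_mul_assoc, one_mul]
    interval_cases k
    · obtain ⟨c, hc⟩ := key 1 (by simp) (by simp)
      exfalso
      have e := congrArg (fun Z => (s : Mat) * Z * s) hc
      simp only [hX, mul_assoc, hss', hss, mul_one, Units.val_one, mul_smul_comm, smul_mul_assoc] at e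
      rw [e, smul_mul_assoc, one_mul, mul_smul_comm, mul_one] at hxy
      have h0 : c - μ * c = 0 := by
        have hy0 : (y : Mat) ≠ 0 := fun h => hdet y (by rw [h, det_zero])
        refine (smul_eq_zero.1 (show (c - μ * c) • (y : Mat) = 0 from ?_)).resolve_right hy0
        rw [sub_smul, ← smul_smul, ← hxy, sub_self]
      have hc0 : c ≠ 0 := fun h => hdet x (by rw [e, h, zero_smul, det_zero])
      exact hμ1 (mul_right_cancel₀ hc0 (by linear_combination -h0))
    · exact Or.inl (key x rfl (by rw [pow_one]; exact hxy))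
    · refine Or.inr ?_
      obtain ⟨c, hc⟩ := key (x * x) (by simp only [Units.val_mul, mul_assoc]) (by
        simp only [Units.val_mul]
        rw [mul_assoc, hxy, mul_smul_comm, ← mul_assoc, hxy, smul_mul_assoc, smul_smul, pow_two, mul_assoc])
      exact ⟨c, by rw [hc, Units.val_mul]⟩
  have hba : (b : Mat) * a = (ω * ω) • ((a : Mat) * b) := by
    rw [hab, smul_smul, show ω * ω * ω = ω ^ 3 by ring, hω3, one_smul]
  have hω21 : ω * ω ≠ 1 := fun h => hω1 (by rw [← hω3, show ω ^ 3 = ω * ω * ω by ring, h, one_mul])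
  refine (himg a ha b hb ω hω3 hω1 hab).resolve_left ?_
  rintro ⟨c, hc⟩
  have hcc : ∀ (x : GLn) (c : F), (s : Mat) * x * s = c • (x : Mat) → (s : Mat) * x = (x : Mat) * s := by
    intro x c hc
    have e := congrArg (fun Z => (s : Mat) * Z * s) hc
    simp only [mul_assoc, hss', hss, mul_one, mul_smul_comm, smul_mul_assoc] at e hc
    rw [hc, smul_smul] at e
    have hx0 : (x : Mat) ≠ 0 := fun h => hdet x (by rw [h, det_zero])
    have hcc : c * c = 1 := smul_left_injective F hx0 (by simpa using e.symm)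
    have h0 : (c - 1) * (c - 1) = 0 := by linear_combination hcc + (1 - c) * two_zero hyp
    rw [sub_eq_zero.1 (mul_self_eq_zero.1 h0), one_smul] at hc
    calc (s : Mat) * x = (s : Mat) * ((x : Mat) * s) * s := by
          rw [mul_assoc (s : Mat), mul_assoc, hss, mul_one]
      _ = (x : Mat) * s := by rw [hc]
  have hsb : ∀ d : F, (s : Mat) * b * s ≠ d • ((b : Mat) * b) := by
    intro d hd
    have e := congrArg (fun Z => (s : Mat) * Z * s) hab
    simp only [mul_smul_comm, smul_mul_assoc] at e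
    have hsp : ∀ X Y : Mat, (s : Mat) * (X * Y) * s = ((s : Mat) * X * s) * ((s : Mat) * Y * s) := fun X Y => by
      simp only [mul_assoc, hss']
    rw [hsp, hsp, hc, hd] at e
    simp only [mul_smul_comm, smul_mul_assoc, smul_smul] at e
    rw [show (a : Mat) * ((b : Mat) * b) = (ω * ω) • ((b : Mat) * b * a) by
      rw [← mul_assoc, hab, smul_mul_assoc, mul_assoc, hab, mul_smul_comm, smul_smul, ← mul_assoc], smul_smul] at e
    have hne : (b : Mat) * b * a ≠ 0 := fun h => by
      have e := congrArg det h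
      rw [det_mul, det_mul, det_zero] at e
      exact mul_ne_zero (mul_ne_zero (hdet b) (hdet b)) (hdet a) e
    have e' := smul_left_injective F hne e
    have hd0 : d ≠ 0 := fun h => by
      have e2 := congrArg det hd
      rw [h, zero_smul, det_zero, det_mul, det_mul] at e2
      exact mul_ne_zero (mul_ne_zero (hdet s) (hdet b)) (hdet s) e2
    have hc0 : c ≠ 0 := fun h => by
      have e2 := congrArg det hc
      rw [h, zero_smul, det_zero, det_mul, det_mul] at e2
      exact mul_ne_zero (mul_ne_zero (hdet s) (hdet a)) (hdet s) e2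
    have hω0 : ω ≠ 0 := fun h => by simp [h] at hω3
    exact hω1 (mul_left_cancel₀ (mul_ne_zero (mul_ne_zero hc0 hd0) hω0) (by linear_combination e'))
  rcases himg b hb a ha _ (by rw [mul_pow, hω3, one_mul]) hω21 hba with ⟨d, hd⟩ | ⟨d, hd⟩
  swap
  · exact hsb d hd
  obtain ⟨k, hk⟩ := schur hn hω3 hω1 hab (hdet a) (hdet b) (hcc a c hc) (hcc b d hd)
  have hk2 : k * k = 1 := by
    haveI : Nonempty (Fin n) := ⟨⟨0, by omega⟩⟩
    have := hss
    rw [hk, smul_mul_assoc, one_mul, smul_smul] at this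
    simpa using congrFun (congrFun this ⟨0, by omega⟩) ⟨0, by omega⟩
  have h0 : (k - 1) * (k - 1) = 0 := by linear_combination hk2 + (1 - k) * two_zero hyp
  rw [sub_eq_zero.1 (mul_self_eq_zero.1 h0), one_smul] at hk
  exact hs1 (Units.ext hk)

open scoped commutatorElement in
/-- no centre has irrational norm against a rational one -/
theorem false_of_norm {u : Vec} (huu : H u u = 0) (hin : InM q M u 1) {v : Idx → D.F₀}
    (hv : H (rv D v) (rv D v) = 0) (hN : H u (rv D v) * H u (rv D v) ^ q ∉ D.F₀) : False := by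
  classical
  have hF := D.hF
  set v' := rv D v with hv'
  set h := H u v' with hh
  set N := h * h ^ q with hNdef
  have hh0 : h ≠ 0 := fun e => hN (by rw [hNdef, e, zero_mul]; exact zero_mem _)
  obtain ⟨sv, hsv, hsvx⟩ := exists_rat_tv hyp hv
  obtain ⟨su, hsu, hsux'⟩ := exists_tvM hF huu (one_skew hyp) hin
  have hsux : ∀ x, (su : Mat) *ᵥ x = x + H x u • u := fun x => by rw [hsux', one_mul]
  have hvu : H v' u = h ^ q := (H_conj hF u v').symm
  have hdbl : ∀ y : Vec, y + y = 0 := fun y => by rw [← two_smul F, two_zero hyp, zero_smul]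
  have hsq : ∀ (s : GLn) (p : Vec), H p p = 0 → (∀ x, (s : Mat) *ᵥ x = x + H x p • p) → s * s = 1 :=
    fun s p hp hx => Max.gl_ext fun x => by
      rw [Max.mulVec_mul_GL, hx, hx]
      simp only [H_add_left, H_smul_left, hp, mul_zero, add_zero, Units.val_one, one_mulVec]
      rw [add_assoc, hdbl, add_zero]
  have hne1 : ∀ (s : GLn) (p x : Vec), p ≠ 0 → H x p ≠ 0 → (∀ x, (s : Mat) *ᵥ x = x + H x p • p) → s ≠ 1 := by
    intro s p x hp hx hs e
    have := hs x
    rw [e, Units.val_one, one_mulVec, left_eq_add, smul_eq_zero] at this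
    exact this.elim hx hp
  have hu0 : u ≠ 0 := fun e => hh0 (by rw [hh, e, H_zero_left])
  have hv0 : v' ≠ 0 := fun e => hh0 (by rw [hh, e, H_zero_right hF])
  have sv1 := hne1 sv v' u hv0 hh0 hsvx
  have su1 := hne1 su u v' hu0 (by rw [hvu]; exact pow_ne_zero _ hh0) hsux
  have sv2 := hsq sv v' hv hsvx
  have su2 := hsq su u huu hsux
  obtain ⟨O, hOM, hOn, hOs, hOd⟩ := exists_core hyp
  set d := sv * su with hd
  have hdO : d ∈ O := hOd sv hsv su hsu sv2 sv1 su2 su1
  obtain ⟨z, hzz, hzv, hzu, -⟩ := exists_pole hF D.hn hv huu hh0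
  have hdz : (d : Mat) *ᵥ z = z := by
    rw [hd, Max.mulVec_mul_GL, hsux, hzu, zero_smul, add_zero, hsvx, hzv, zero_smul, add_zero]
  -- the cube of the product is trivial
  have hcube : d * d * d = 1 := by
    have hfin : ∀ g : GLn, (∃ c : F, (g : Mat) = c • 1) → (g : Mat) *ᵥ z = z → g = 1 := by
      rintro g ⟨c, hc⟩ hgz
      rw [hc, Matrix.smul_mulVec, Matrix.one_mulVec] at hgz
      have hz0 : z ≠ 0 := fun e => hzz (by rw [e, H_zero_left])
      have hc1 : c = 1 := smul_left_injective F hz0 (by simpa using hgz)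
      exact Units.ext (by rw [hc, hc1, one_smul, Units.val_one])
    have hdz3 : ((d * d * d : GLn) : Mat) *ᵥ z = z := by simp only [Max.mulVec_mul_GL, hdz]
    refine hfin _ ?_ hdz3
    let Sc : Subgroup GLn → Prop := fun K => ∀ x ∈ K, ∃ c : F, (x : Mat) = c • 1
    by_cases hSO : Sc O
    · exact hSO _ (mul_mem (mul_mem hdO hdO) hdO)
    let Dk : ℕ → Subgroup GLn := fun k => (derivedSeries O k).map O.subtype
    have hDs : ∀ k, Dk (k + 1) = ⁅Dk k, Dk k⁆ := fun k => by
      show (derivedSeries O (k + 1)).map O.subtype = _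
      rw [derivedSeries_succ, Subgroup.map_commutator]
    have hD0 : Dk 0 = O := by
      show (derivedSeries O 0).map O.subtype = O
      rw [derivedSeries_zero, ← MonoidHom.range_eq_map, Subgroup.range_subtype]
    have hDO : ∀ k, Dk k ≤ O := fun k => Subgroup.map_subtype_le _
    have hDn : ∀ k, ∀ m ∈ M, ∀ x ∈ Dk k, m * x * m⁻¹ ∈ Dk k := by
      intro k
      induction k with
      | zero => rw [hD0]; exact hOn
      | succ k ih =>
        intro m hm x hx
        rw [hDs] at hx ⊢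
        have : (⁅Dk k, Dk k⁆ : Subgroup GLn) ≤ (⁅Dk k, Dk k⁆ : Subgroup GLn).comap (MulAut.conj m).toMonoidHom := by
          rw [Subgroup.commutator_le]
          intro y hy y' hy'
          rw [Subgroup.mem_comap, map_commutatorElement]
          exact Subgroup.commutator_mem_commutator (ih m hm y hy) (ih m hm y' hy')
        exact this hx
    obtain ⟨k₀, hk₀⟩ := hOs.solvable
    have hex : ∃ k, Sc (Dk k) := ⟨k₀, fun x hx => by
      have h' : x ∈ (derivedSeries O k₀).map O.subtype := hx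
      rw [hk₀, Subgroup.map_bot, Subgroup.mem_bot] at h'
      exact ⟨1, by rw [h', Units.val_one, one_smul]⟩⟩
    obtain ⟨j, hj⟩ : ∃ j, Nat.find hex = j + 1 := Nat.exists_eq_succ_of_ne_zero fun h0 => hSO (by
      have := Nat.find_spec hex
      rwa [h0, hD0] at this)
    have hSc : Sc ⁅Dk j, Dk j⁆ := by rw [← hDs, ← hj]; exact Nat.find_spec hex
    have hEns : ¬ Sc (Dk j) := Nat.find_min hex (by omega)
    have hEM : Dk j ≤ M := (hDO j).trans hOM
    obtain ⟨a, ha, b, hb, hne⟩ : ∃ a ∈ Dk j, ∃ b ∈ Dk j, a * b ≠ b * a := by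
      by_contra hc
      push Not at hc
      exact hEns (abelian_scalar hyp _ hEM (hDn j) hc)
    have hsc : ∀ x ∈ Dk j, ∀ y ∈ Dk j, ∃ c : F, ((x * y * x⁻¹ * y⁻¹ : GLn) : Mat) = c • 1 := fun x hx y hy => by
      rw [← commutatorElement_def]
      exact hSc _ (Subgroup.commutator_mem_commutator hx hy)
    obtain ⟨ω, hω⟩ := hsc a ha b hb
    have hab : (a : Mat) * b = ω • ((b : Mat) * a) := by
      calc (a : Mat) * b = ((a * b * a⁻¹ * b⁻¹ : GLn) : Mat) * ((b : Mat) * a) := by
            rw [← Units.val_mul, ← Units.val_mul, ← Units.val_mul]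
            congr 1
            group
        _ = ω • ((b : Mat) * a) := by rw [hω, smul_mul_assoc, one_mul]
    have hdet : ∀ g : GLn, (g : Mat).det ≠ 0 := fun g => ((Matrix.isUnit_iff_isUnit_det _).1 g.isUnit).ne_zero
    have hω3 : ω ^ 3 = 1 := by
      have e' := congrArg det hab
      rw [det_mul, det_smul, det_mul, Fintype.card_fin, mul_comm (det (a : Mat))] at e'
      have e3 := (mul_eq_right₀ (mul_ne_zero (hdet b) (hdet a))).1 e'.symm
      rwa [D.hn] at e3
    have hω1 : ω ≠ 1 := fun e => hne (Units.ext (by rw [Units.val_mul, Units.val_mul, hab, e, one_smul]))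
    have hba : (b : Mat) * a = (ω * ω) • ((a : Mat) * b) := by
      rw [hab, smul_smul, show ω * ω * ω = ω ^ 3 by ring, hω3, one_smul]
    have hω21 : ω * ω ≠ 1 := fun h => hω1 (by rw [← hω3, show ω ^ 3 = ω * ω * ω by ring, h, one_mul])
    have hcom3 : ∀ x ∈ Dk j, ∀ y ∈ Dk j, ∀ μ : F, μ ^ 3 = 1 → μ ≠ 1 → (x : Mat) * y = μ • ((y : Mat) * x) →
        ((d * d * d : GLn) : Mat) * x = (x : Mat) * ((d * d * d : GLn) : Mat) := by
      intro x hx y hy μ hμ3 hμ1 hxy
      obtain ⟨c, hc⟩ := invol_action hyp hEM (hDn j) hsc hx hy hμ3 hμ1 hxy hsv sv2 sv1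
      obtain ⟨c', hc'⟩ := invol_action hyp hEM (hDn j) hsc hx hy hμ3 hμ1 hxy hsu su2 su1
      have hx3 : ∃ t : F, (x : Mat) * x * x = t • 1 := by
        refine schur D.hn hμ3 hμ1 hxy (hdet x) (hdet y) (by simp only [mul_assoc]) ?_
        calc (x : Mat) * x * x * y = μ ^ 3 • ((y : Mat) * ((x : Mat) * x * x)) := by
              simp only [mul_assoc, hxy, mul_smul_comm]
              simp only [← mul_assoc, hxy, smul_mul_assoc, smul_smul]
              simp only [mul_assoc, hxy, mul_smul_comm, smul_smul]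
              simp only [← mul_assoc, hxy, smul_mul_assoc, smul_smul]
              simp only [mul_assoc]
              congr 1
              ring
          _ = (y : Mat) * ((x : Mat) * x * x) := by rw [hμ3, one_smul]
      obtain ⟨t, ht⟩ := hx3
      have hv2 : (sv : Mat) * sv = 1 := by rw [← Units.val_mul, sv2, Units.val_one]
      have hu2 : (su : Mat) * su = 1 := by rw [← Units.val_mul, su2, Units.val_one]
      have h1 : ∀ X Y : Mat, (sv : Mat) * (X * Y) * sv = ((sv : Mat) * X * sv) * ((sv : Mat) * Y * sv) :=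
        fun X Y => by
          rw [show (sv : Mat) * X * sv * ((sv : Mat) * Y * sv) = (sv : Mat) * X * ((sv : Mat) * sv) * Y * sv by
            simp only [mul_assoc], hv2]
          simp only [mul_assoc, one_mul]
      have hκ : (d : Mat) * x = (c' * (c * c * t)) • ((x : Mat) * d) := by
        have e : (sv : Mat) * ((su : Mat) * x * su) * sv = (c' * (c * c * t)) • (x : Mat) := by
          rw [hc', mul_smul_comm, smul_mul_assoc, h1, hc, smul_mul_assoc, mul_smul_comm, smul_smul, smul_smul,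
            show (x : Mat) * x * ((x : Mat) * x) = (x : Mat) * x * x * x by simp only [mul_assoc], ht,
            smul_mul_assoc, one_mul, smul_smul]
          congr 1
          ring
        have hdd : (su : Mat) * sv * ((sv : Mat) * su) = 1 := by
          rw [mul_assoc, ← mul_assoc (sv : Mat) sv, hv2, one_mul, hu2]
        calc (d : Mat) * x = (sv : Mat) * ((su : Mat) * x * su) * sv * ((sv : Mat) * su) := by
              rw [hd, Units.val_mul]
              simp only [mul_assoc]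
              rw [← mul_assoc (sv : Mat) sv, hv2, one_mul, hu2, mul_one]
          _ = _ := by rw [e, smul_mul_assoc, hd, Units.val_mul]
      set κ := c' * (c * c * t)
      have hκ3 : κ ^ 3 = 1 := by
        have e' := congrArg det hκ
        rw [det_mul, det_smul, det_mul, Fintype.card_fin, mul_comm (det (d : Mat))] at e'
        have e3 := (mul_eq_right₀ (mul_ne_zero (hdet x) (hdet d))).1 e'.symm
        rwa [D.hn] at e3
      have hmv : ∀ Z : Mat, (d : Mat) * ((x : Mat) * Z) = κ • ((x : Mat) * ((d : Mat) * Z)) := fun Z => by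
        rw [← mul_assoc, hκ, smul_mul_assoc, mul_assoc]
      simp only [Units.val_mul, mul_assoc]
      rw [hκ, mul_smul_comm, mul_smul_comm, hmv, mul_smul_comm, hmv, smul_smul, smul_smul,
        show κ * κ * κ = κ ^ 3 by ring, hκ3, one_smul]
    exact schur D.hn hω3 hω1 hab (hdet a) (hdet b) (hcom3 a ha b hb ω hω3 hω1 hab)
      (hcom3 b hb a ha _ (by rw [mul_pow, hω3, one_mul]) hω21 hba)
  -- compute the cube
  have hdu : (d : Mat) *ᵥ u = u + h • v' := by
    rw [hd, Max.mulVec_mul_GL, hsux, huu, zero_smul, add_zero, hsvx]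
  have hdv : (d : Mat) *ᵥ v' = v' + h ^ q • (u + h • v') := by
    rw [hd, Max.mulVec_mul_GL, hsux, hvu, mulVec_add, mulVec_smul, hsvx, hsvx, hv, zero_smul, add_zero]
  have e : ((d * d * d : GLn) : Mat) *ᵥ u = u := by rw [hcube, Units.val_one, one_mulVec]
  simp only [Max.mulVec_mul_GL, hdu, mulVec_add, mulVec_smul, hdv] at e
  have e' := congrArg (fun x => H x u) e
  simp only [H_add_left, H_smul_left, huu, hvu, mul_zero, add_zero, zero_add] at e'
  have h0 : N * ((N + 1) * (N + 1)) = 0 := by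
    linear_combination (exp := 1) e' - (N + N ^ 2) * two_zero hyp
  rcases mul_eq_zero.1 h0 with h1 | h1
  · exact hN (h1.symm ▸ zero_mem _)
  · refine hN ?_
    rw [show N = 1 by linear_combination mul_self_eq_zero.1 h1 - two_zero hyp]
    exact one_mem _

end Cfsg.Agent.Forms.Max.SU3.Subfield.Two
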